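import Cfsg.Agent.Lib.StructC.RowsTools
import Cfsg.Agent.Lib.BlockB.DefectZero
import Cfsg.Agent.Lib.BlockA.SchurBound

/-!
# The character of degree six of a simple group of order 6048 without elements of order 9, 14, 21
-/

set_option autoImplicit false

namespace CfsgLib.Recog.USixty

open Cfsg CfsgLib CfsgLib.Block CfsgLib.ClassK CfsgLib.ClassK.RowSieve CfsgLib.ClassK.RowInvolution
  CfsgLib.StructC.OrdersBelow CfsgLib.StructC.RowsTools
open scoped ComplexConjugate

universe u

/-- The possible values on the four lines of a subgroup of order nine. -/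
def Pattern (p q r s : ℤ) : Prop :=
  (p + q + r + s) % 3 = 2 ∧ -1 ≤ p + q + r + s ∧ p + q + r + s ≤ 3 * p + 2 ∧ p + q + r + s ≤ 3 * q + 2 ∧
    p + q + r + s ≤ 3 * r + 2 ∧ p + q + r + s ≤ 3 * s + 2

instance (p q r s : ℤ) : Decidable (Pattern p q r s) := by unfold Pattern; infer_instance

/-- What is used about the character of degree six: `3 α` are its values at elements of order
three. -/
structure Alpha (G : Type u) [Group G] (α : G → ℤ) : Prop where
  simple : IsSimpleGroup G
  card : Nat.card G = 6048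
  exp_three : ∀ g : G, orderOf g ≠ 9
  range : ∀ y : G, orderOf y = 3 → α y = -1 ∨ α y = 0 ∨ α y = 1
  conj_eq : ∀ g y : G, α (g * y * g⁻¹) = α y
  inv_eq : ∀ y : G, orderOf y = 3 → α y⁻¹ = α y
  cen_dvd : ∀ y : G, orderOf y = 3 → Nat.card (Subgroup.centralizer ({y} : Set G)) ∣ 108
  cen_zero : ∀ y : G, orderOf y = 3 → α y = 0 →
    Nat.card (Subgroup.centralizer ({y} : Set G)) ∣ 27
  plane : ∀ a b : G, orderOf a = 3 → orderOf b = 3 → a * b = b * a →
    b ∉ Subgroup.zpowers a → Pattern (α a) (α b) (α (a * b)) (α (a * b * b))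
  count : ∀ P : Subgroup G, Nat.card P = 27 →
    Nat.card {y : P // orderOf (y : G) = 3 ∧ α y ≠ 0} % 3 = 2

variable {G : Type u} [Group G] [Finite G] [IsSimpleGroup G]

theorem not_comm (h : Nat.card G = 6048) : ¬ IsMulCommutative G := fun hc => by
  let : CommGroup G := { (inferInstance : Group G) with mul_comm := hc.is_comm.comm }
  have := IsSimpleGroup.prime_card (α := G)
  rw [h] at this
  norm_num at this

theorem values_check : ∀ q ∈ qRange 8, ∀ r ∈ qRange 27,
    ¬ (216 + 27 * q * q + 12 * (1 + q - r) * (1 + q - r) = 8 * r * r) := by decide +kernel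

open scoped Classical in
/-- The rows of the principal 7-block. -/
theorem exists_rows_six (h : Nat.card G = 6048) (h14 : ∀ g : G, orderOf g ≠ 14)
    (h21 : ∀ g : G, orderOf g ≠ 21) :
    ∃ f g η : IrrCharacter G, charDegree (f : G → ℂ) = 6 ∧ charDegree (g : G → ℂ) = 27 ∧
      charDegree (η : G → ℂ) = 32 ∧
      (∀ y : G, ¬ 7 ∣ orderOf y → 1 - (f : G → ℂ) y - (g : G → ℂ) y = -(η : G → ℂ) y) ∧
      ∀ k : ℕ, k.Coprime (Nat.card G) → ∀ y : G, (f : G → ℂ) (y ^ k) = (f : G → ℂ) y := by
  have h7 : Nat.Prime 7 := by norm_num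
  have : Fact (Nat.Prime 7) := ⟨h7⟩
  have : Fact (Nat.Prime 2) := ⟨Nat.prime_two⟩
  have : Fact (Nat.Prime 3) := ⟨Nat.prime_three⟩
  have hG := not_comm h
  have := Fintype.ofFinite G
  have := Fintype.ofFinite (IrrCharacter G)
  obtain ⟨P, hP, hnp, he, hC'⟩ := exists_config (p := 7) (B := 78) (np := 288) (e := 3) hG h
    (by norm_num) (by norm_num) (by norm_num) (by decide +kernel)
  have hC : Nat.card (Subgroup.centralizer ((P : Subgroup G) : Set G)) = 7 := by omega
  obtain ⟨l, d, σ, M, CF, YF, ε, hl, hds, hM, D, hmap⟩ :=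
    exists_rows_sol (p := 7) (B := 78) (t := 2) hG h (by norm_num) (by norm_num) (by norm_num) P hnp he
      (by norm_num) (by norm_num)
  have := isPrime_of_pmodular hM
  have hall : ((sols 6048 (cands 6048 (288 * 3) 7 78 false fun _ => true) (3 - 1) 0).all fun l =>
      (excData 6048 (288 * 3) 7 78 3 2 l).all fun ds =>
        ((decide (l = [(6, false), (27, false)]) && decide (ds = (32, (-1 : ℤ)))) ||
          (decide (l = [(8, true), (6, false)]) && decide (ds = (3, (1 : ℤ))))) ||
          (decide (l = [(8, true), (27, false)]) && decide (ds = (18, (-1 : ℤ))))) = true := by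
    decide +kernel
  have hcase := List.all_eq_true.1 (List.all_eq_true.1 hall l hl) _ hds
  simp only [Bool.or_eq_true, Bool.and_eq_true, decide_eq_true_eq, Prod.mk.injEq] at hcase
  -- two rows besides the principal character
  let one : IrrCharacter G := ⟨fun _ => 1, Char.isIrrCharacter_one⟩
  have hdone : charDegree (one : G → ℂ) = 1 := by
    have h1 := BlockB.irr_degree_cast one
    simp only [one] at h1
    exact_mod_cast h1
  have hmap' : Multiset.map (fun φ : IrrCharacter G => charDegree (φ : G → ℂ)) (CF.erase one).val =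
      ↑(l.map Prod.fst) := by
    convert hmap using 4
  have hpair : ∀ d1 d2 : ℕ, l.map Prod.fst = [d1, d2] → d1 ≠ d2 →
      ∃ f g : IrrCharacter G, charDegree (f : G → ℂ) = d1 ∧ charDegree (g : G → ℂ) = d2 ∧
        CF = {one, f, g} ∧ one ∉ ({f, g} : Finset (IrrCharacter G)) ∧ f ≠ g := by
    intro d1 d2 hl hne
    rw [hl] at hmap'
    obtain ⟨f, hf, hdf⟩ := Multiset.mem_map.1 (show d1 ∈ Multiset.map
      (fun φ : IrrCharacter G => charDegree (φ : G → ℂ)) (CF.erase one).val by rw [hmap']; simp)
    obtain ⟨g, hg, hdg⟩ := Multiset.mem_map.1 (show d2 ∈ Multiset.map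
      (fun φ : IrrCharacter G => charDegree (φ : G → ℂ)) (CF.erase one).val by rw [hmap']; simp)
    rw [Finset.mem_val, Finset.mem_erase] at hf hg
    have hfg : f ≠ g := fun e => hne (by rw [← hdf, e, hdg])
    refine ⟨f, g, hdf, hdg, ?_, by simp [Ne.symm hf.1, Ne.symm hg.1], hfg⟩
    refine (Finset.eq_of_subset_of_card_le ?_ ?_).symm
    · intro φ hφ
      simp only [Finset.mem_insert, Finset.mem_singleton] at hφ
      rcases hφ with rfl | rfl | rfl
      · exact D.one_mem
      · exact hf.2
      · exact hg.2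
    · rw [D.card_CF, if_neg (by norm_num),
        Finset.card_insert_of_notMem (by simp [Ne.symm hf.1, Ne.symm hg.1]),
        Finset.card_insert_of_notMem (by simp [hfg]), Finset.card_singleton]
  have hsign : ∀ φ ∈ CF, ∀ s : ℤ, (s = 1 ∨ s = -1) → (7 : ℤ) ∣ s - charDegree (φ : G → ℂ) →
      ε φ = s := by
    intro φ hφ s hs hd
    have h1 := D.CF_mod φ hφ
    rcases D.eps_pm φ hφ with e | e <;> rcases hs with rfl | rfl <;> rw [e] at h1 ⊢ <;>
      push_cast at h1 hd <;> omega
  obtain ⟨η, hη⟩ : YF.Nonempty := Finset.card_pos.1 (by rw [D.card_YF]; norm_num)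
  have hdη := D.YF_deg η hη
  rcases hcase with (⟨hl', rfl, rfl⟩ | ⟨hl', rfl, rfl⟩) | ⟨hl', rfl, rfl⟩
  · obtain ⟨f, g, hdf, hdg, hCF, h1, hfg⟩ := hpair 6 27 (by rw [hl']; rfl) (by norm_num)
    have hf : f ∈ CF := by rw [hCF]; simp
    have hg : g ∈ CF := by rw [hCF]; simp
    refine ⟨f, g, η, hdf, hdg, hdη, fun y hy => ?_, fun k hk y => ?_⟩
    · have h2 := D.relation (by norm_num) η hη y hy
      rw [hCF, Finset.sum_insert h1, Finset.sum_pair hfg, D.eps_one,
        hsign f hf (-1) (Or.inr rfl) (by rw [hdf]; norm_num),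
        hsign g hg (-1) (Or.inr rfl) (by rw [hdg]; norm_num)] at h2
      push_cast at h2
      linear_combination h2
    · refine apply_pow_eq hM D hf (by rw [hdf]; norm_num) (fun ψ hψ hd => ?_) hk y
      rw [hCF] at hψ
      simp only [Finset.mem_insert, Finset.mem_singleton] at hψ
      rcases hψ with rfl | rfl | rfl
      · rw [hdf] at hd; exact absurd (hdone.symm.trans hd) (by norm_num)
      · rfl
      · rw [hdg, hdf] at hd; omega
  · -- a rational faithful character of degree three
    exfalso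
    obtain ⟨f, g, hdf, hdg, hCF, h1, hfg⟩ := hpair 8 6 (by rw [hl']; rfl) (by norm_num)
    have hgal : ∀ φ ∈ CF, ∀ {k : ℕ} (hk : k.Coprime (Nat.card G)) (y : G),
        (φ : G → ℂ) (y ^ k) = (φ : G → ℂ) y := by
      intro φ hφ k hk y
      refine apply_pow_eq hM D hφ ?_ (fun ψ hψ hd => ?_) hk y
      · rw [hCF] at hφ
        simp only [Finset.mem_insert, Finset.mem_singleton] at hφ
        rcases hφ with rfl | rfl | rfl
        · rw [hdone]; norm_num
        · rw [hdf]; norm_num
        · rw [hdg]; norm_num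
      · rw [hCF] at hφ hψ
        simp only [Finset.mem_insert, Finset.mem_singleton] at hφ hψ
        rcases hφ with rfl | rfl | rfl <;> rcases hψ with rfl | rfl | rfl <;>
          first | rfl | (simp only [hdone, hdf, hdg] at hd; omega)
    have hne : (η : G → ℂ) ≠ fun _ => 1 := fun h1 =>
      Finset.disjoint_left.1 D.disj D.one_mem
        ((Subtype.ext h1 : η = ⟨fun _ => 1, Char.isIrrCharacter_one⟩) ▸ hη)
    obtain ⟨T⟩ := (inferInstance : Nonempty (Sylow 2 G))
    have hT : Nat.card (T : Subgroup G) = 2 ^ 5 := by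
      rw [T.card_eq_multiplicity, h, show (6048 : ℕ) = 2 ^ 5 * 189 by norm_num,
        Nat.factorization_mul (by norm_num) (by norm_num), Finsupp.add_apply,
        Nat.prime_two.factorization_pow, Finsupp.single_eq_same,
        Nat.factorization_eq_zero_of_not_dvd (by norm_num)]
    have := Fintype.ofFinite (T : Subgroup G)
    have hrat : ∀ (x : (T : Subgroup G)) (i : ℕ), i.Coprime 2 →
        ((η : G → ℂ) ∘ (T : Subgroup G).subtype) (x ^ i) =
          ((η : G → ℂ) ∘ (T : Subgroup G).subtype) x := by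
      intro x i hi
      obtain ⟨k, hk1, hk2⟩ := Nat.chineseRemainder (n := 32) (m := 189) (by norm_num) i 1
      have hk : k.Coprime (Nat.card G) := by
        rw [h, show (6048 : ℕ) = 32 * 189 by norm_num]
        refine Nat.Coprime.mul_right ?_ ?_
        · rw [show (32 : ℕ) = 2 ^ 5 by norm_num]
          refine Nat.Coprime.pow_right 5 ?_
          have h1 : k ≡ i [MOD 2] := hk1.of_dvd (by norm_num)
          rw [Nat.Coprime, h1.gcd_eq]
          exact hi
        · rw [Nat.Coprime, hk2.gcd_eq]
          norm_num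
      have hord : orderOf (x : G) ∣ 32 := by
        rw [show (32 : ℕ) = 2 ^ 5 by norm_num, ← hT]
        exact Subgroup.orderOf_dvd_natCard _ x.2
      have hxi : (x : G) ^ k = (x : G) ^ i := pow_eq_pow_iff_modEq.2 (hk1.of_dvd hord)
      have hreg : ∀ j : ℕ, ¬ 7 ∣ orderOf ((x : G) ^ j) := fun j h7' => by
        have := (h7'.trans (orderOf_pow_dvd j)).trans hord
        norm_num at this
      have h2 := D.relation (by norm_num) η hη ((x : G) ^ i) (hreg i)
      have h3 := D.relation (by norm_num) η hη (x : G) (by simpa using hreg 1)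
      rw [Finset.sum_congr rfl fun φ hφ => by rw [← hxi, hgal φ hφ hk (x : G)]] at h2
      simp only [Function.comp_apply, Subgroup.coe_subtype, SubgroupClass.coe_pow]
      exact mul_left_cancel₀ (a := ((1 : ℤ) : ℂ)) (by norm_num) (h2.symm.trans h3)
    have hb := BlockA.SchurBound.schur_bound T.2 (CfsgLib.Char.isCharacter_comp
      (CfsgLib.Char.irr_isCharacter η.2) (T : Subgroup G).subtype)
      (fun x hx => Subtype.ext (by_contra fun hx1 => by
        simp only [Function.comp_apply, Subgroup.coe_subtype, OneMemClass.coe_one] at hx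
        exact CfsgLib.Transfer.irr_apply_ne_apply_one η hne hx1 hx))
      hrat (n := 3) (by
        simp only [Function.comp_apply, Subgroup.coe_subtype, OneMemClass.coe_one]
        rw [← BlockB.irr_degree_cast, hdη])
    rw [hT, Nat.prime_two.factorization_pow, Finsupp.single_eq_same] at hb
    norm_num [Finset.sum_range_succ] at hb
  · -- no admissible values at an involution
    exfalso
    obtain ⟨f, g, hdf, hdg, hCF, h1, hfg⟩ := hpair 8 27 (by rw [hl']; rfl) (by norm_num)
    have hf : f ∈ CF := by rw [hCF]; simp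
    have hg : g ∈ CF := by rw [hCF]; simp
    obtain ⟨u, hu⟩ := exists_prime_orderOf_dvd_card' (G := G) 2 (by rw [h]; norm_num)
    obtain ⟨x, hx, hx1⟩ : ∃ x ∈ (P : Subgroup G), x ≠ 1 := by
      refine Subgroup.bot_or_exists_ne_one _ |>.resolve_left fun h' => ?_
      rw [h', Subgroup.card_bot] at hP
      norm_num at hP
    have hperf := CfsgLib.Transfer.commutator_eq_top_of_simple hG
    have hqr : ∀ φ : IrrCharacter G, φ ≠ one →
        ∃ a ∈ qRange (charDegree (φ : G → ℂ)), (φ : G → ℂ) u = (a : ℂ) := fun φ hφ => by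
      refine exists_mem_qRange hperf φ hu (fun y hy => CfsgLib.Transfer.irr_apply_ne_apply_one φ
        (fun e => hφ (Subtype.ext e)) hy) fun hcen => ?_
      rcases IsSimpleGroup.eq_bot_or_eq_top_of_normal (Subgroup.center G) inferInstance with hc | hc
      · rw [hc, Subgroup.mem_bot] at hcen; rw [hcen, orderOf_one] at hu; norm_num at hu
      · exact hG ⟨⟨fun a b => Subgroup.mem_center_iff.1 (hc.ge (Subgroup.mem_top b)) a⟩⟩
    simp only [Finset.mem_insert, Finset.mem_singleton, not_or] at h1
    obtain ⟨q, hq, hqv⟩ := hqr f (Ne.symm h1.1)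
    obtain ⟨r, hr, hrv⟩ := hqr g (Ne.symm h1.2)
    rw [hdf] at hq
    rw [hdg] at hr
    have hsum := class_sum_eq_zero hM D hP hC (by norm_num) hx hx1 hu (by norm_num)
      (fun v hv hinv => by
        have hN : v ∈ Subgroup.normalizer ((P : Subgroup G) : Set G) := by
          have hPx : Subgroup.zpowers x = (P : Subgroup G) := by
            refine Subgroup.eq_of_le_of_card_ge (Subgroup.zpowers_le.2 hx) ?_
            have hd := Subgroup.orderOf_dvd_natCard (P : Subgroup G) hx
            rw [hP] at hd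
            rw [Nat.card_zpowers, hP,
              ((Nat.dvd_prime h7).1 hd).resolve_left fun h' => hx1 (orderOf_eq_one_iff.1 h')]
          have hm : (P : Subgroup G).map (MulAut.conj v).toMonoidHom = P := by
            rw [← hPx, MonoidHom.map_zpowers]
            simp [hinv]
          refine Subgroup.mem_normalizer_iff.2 fun y => ?_
          conv_rhs => rw [← hm]
          exact ⟨fun hy => ⟨y, hy, rfl⟩, fun ⟨y', hy', e⟩ => by
            simp only [MulEquiv.coe_toMonoidHom, MulAut.conj_apply] at e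
            rwa [← mul_left_cancel (mul_right_cancel e)]⟩
        have hN21 := (Subgroup.normalizer ((P : Subgroup G) : Set G)).index_mul_card
        have hi : (Subgroup.normalizer ((P : Subgroup G) : Set G)).index = 288 :=
          P.card_eq_index_normalizer.symm.trans hnp
        rw [hi, h] at hN21
        have := Subgroup.orderOf_dvd_natCard _ hN
        rw [hv, show Nat.card (Subgroup.normalizer ((P : Subgroup G) : Set G)) = 21 by omega] at this
        norm_num at this)
    rw [hCF, Finset.sum_insert (by simp [h1.1, h1.2]), Finset.sum_pair hfg,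
      Finset.sum_insert (by simp [h1.1, h1.2]), Finset.sum_pair hfg, D.eps_one,
      hsign f hf 1 (Or.inl rfl) (by rw [hdf]; norm_num),
      hsign g hg (-1) (Or.inr rfl) (by rw [hdg]; norm_num), hdf, hdg, hdone, hqv, hrv,
      show ((one : G → ℂ) u) = 1 from rfl] at hsum
    have : ((216 + 27 * q * q + 12 * (1 + q - r) * (1 + q - r) : ℤ) : ℂ) = ((8 * r * r : ℤ) : ℂ) := by
      push_cast at hsum ⊢
      linear_combination 216 * hsum
    exact values_check q hq r hr (by exact_mod_cast this)

open scoped Classical in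
/-- The values of the degree six character on elements of order three. -/
theorem exists_alpha (h : Nat.card G = 6048) (h9 : ∀ g : G, orderOf g ≠ 9)
    (h14 : ∀ g : G, orderOf g ≠ 14) (h21 : ∀ g : G, orderOf g ≠ 21) :
    ∃ α : G → ℤ, Alpha G α := by
  obtain ⟨f, g, η, hdf, hdg, hdη, hrel, hgal⟩ := exists_rows_six h h14 h21
  have := Fintype.ofFinite G
  have : Fact (Nat.Prime 3) := ⟨Nat.prime_three⟩
  have h7 : Fact (Nat.Prime 7) := ⟨by norm_num⟩
  have hf1 : (f : G → ℂ) 1 = 6 := by rw [← BlockB.irr_degree_cast, hdf]; norm_num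
  have hne : (f : G → ℂ) ≠ fun _ => 1 := fun e => by
    have h1 : (f : G → ℂ) 1 = 1 := congrFun e 1
    rw [hf1] at h1; norm_num at h1
  have hg0 : ∀ y : G, 3 ∣ orderOf y → (g : G → ℂ) y = 0 := fun y hy => by
    refine BlockB.irr_apply_eq_zero_of_defect_zero g ?_ hy
    rw [hdg, h, show (6048 : ℕ).factorization 3 = 3 by
      rw [show (6048 : ℕ) = 3 ^ 3 * 224 by norm_num, Nat.factorization_mul (by norm_num) (by norm_num),
        Finsupp.add_apply, Nat.prime_three.factorization_pow, Finsupp.single_eq_same,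
        Nat.factorization_eq_zero_of_not_dvd (by norm_num)]]
    norm_num
  have hinv : ∀ y : G, orderOf y = 3 → (f : G → ℂ) (y * y) = (f : G → ℂ) y := fun y hy => by
    have h5 := hgal 5 (by rw [h]; norm_num) y
    rwa [← pow_mod_orderOf, hy, show 5 % 3 = 2 from rfl, pow_two] at h5
  have hval : ∀ y : G, orderOf y = 3 →
      ∃ a : ℤ, (a = -1 ∨ a = 0 ∨ a = 1) ∧ (f : G → ℂ) y = 3 * (a : ℂ) := by
    intro y hy
    obtain ⟨d, hd6, hsum⟩ := BlockA.SchurBound.exists_fixed_dim (Char.irr_isCharacter f.2)
      (n := 6) (by rw [hf1]; norm_num) y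
    rw [hy, Finset.sum_range_succ, Finset.sum_range_succ, Finset.sum_range_one, pow_zero, pow_one,
      pow_two, hf1, hinv y hy] at hsum
    have hfy : (f : G → ℂ) y = (((3 * (d : ℤ) - 6 : ℤ) : ℚ) / 2 : ℚ) := by
      push_cast at hsum ⊢
      linear_combination hsum / 2
    obtain ⟨k, hk⟩ := Char.exists_int_of_isIntegral_rat (q := ((3 * (d : ℤ) - 6 : ℤ) : ℚ) / 2)
      (hfy ▸ Block.irr_apply_isIntegral (Char.irr_isCharacter f.2) y)
    have hk2 : 3 * (d : ℤ) - 6 = 2 * k := by
      have : ((3 * (d : ℤ) - 6 : ℤ) : ℚ) = 2 * (k : ℚ) := by rw [← hk]; ring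
      exact_mod_cast this
    have hd : d ≠ 6 := fun e => by
      refine CfsgLib.Transfer.irr_apply_ne_apply_one f hne (x := y)
        (fun e1 => by rw [e1, orderOf_one] at hy; norm_num at hy) ?_
      rw [hfy, hk, hf1, show k = 6 by omega]; norm_num
    refine ⟨k / 3, by omega, ?_⟩
    rw [hfy, hk, show (k : ℤ) = 3 * (k / 3) by omega]
    push_cast
    rw [show 3 * (k / 3) / 3 = k / 3 by omega]
  let α : G → ℤ := fun y => if hy : orderOf y = 3 then (hval y hy).choose else 0
  have hα : ∀ y : G, orderOf y = 3 → (α y = -1 ∨ α y = 0 ∨ α y = 1) ∧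
      (f : G → ℂ) y = 3 * (α y : ℂ) := fun y hy => by
    simp only [α, dif_pos hy]; exact (hval y hy).choose_spec
  have heq : ∀ y z : G, orderOf y = 3 → orderOf z = 3 → (f : G → ℂ) y = (f : G → ℂ) z → α y = α z :=
    fun y z hy hz e => by
      rw [(hα y hy).2, (hα z hz).2] at e
      exact_mod_cast mul_left_cancel₀ (by norm_num : (3 : ℂ) ≠ 0) e
  have hcen : ∀ y : G, orderOf y = 3 → (α y = 0 → Nat.card (Subgroup.centralizer ({y} : Set G)) ∣ 27) ∧
      Nat.card (Subgroup.centralizer ({y} : Set G)) ∣ 108 := by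
    intro y hy
    set C := Subgroup.centralizer ({y} : Set G)
    have hi := C.index_mul_card
    rw [h] at hi
    have hn7 : ¬ 7 ∣ Nat.card C := fun hd => by
      obtain ⟨x, hx⟩ := exists_prime_orderOf_dvd_card' 7 hd
      have hxo : orderOf (x : G) = 7 := by rw [Subgroup.orderOf_coe, hx]
      refine h21 ((x : G) * y) ?_
      rw [(show Commute (x : G) y from
        Subgroup.mem_centralizer_singleton_iff.1 x.2).orderOf_mul_eq_mul_orderOf_of_coprime
          (by rw [hxo, hy]; norm_num), hxo, hy]
    have h864 : Nat.card C ∣ 864 :=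
      ((h7.out.coprime_iff_not_dvd).2 hn7).symm.dvd_of_dvd_mul_right
        (show Nat.card C ∣ 864 * 7 from ⟨C.index, by rw [mul_comm (Nat.card C), hi]⟩)
    have hηy : (η : G → ℂ) y = (3 * α y - 1 : ℤ) := by
      have := hrel y (by rw [hy]; norm_num)
      rw [hg0 y (by rw [hy]), (hα y hy).2] at this
      push_cast
      linear_combination this
    have h1 := Block.irr_centralChar_isIntegral η.2 y
    rw [centralChar, ← BlockB.irr_degree_cast, hdη, hηy,
      show ((C.index : ℕ) : ℂ) * ((3 * α y - 1 : ℤ) : ℂ) / ((32 : ℕ) : ℂ) =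
        ((((C.index : ℤ) * (3 * α y - 1) : ℤ) : ℚ) / 32 : ℚ) by push_cast; ring] at h1
    obtain ⟨k, hk⟩ := Char.exists_int_of_isIntegral_rat h1
    have hk2 : (C.index : ℤ) * (3 * α y - 1) = 32 * k := by
      have : (((C.index : ℤ) * (3 * α y - 1) : ℤ) : ℚ) = 32 * (k : ℚ) := by rw [← hk]; ring
      exact_mod_cast this
    have hdiv : ∀ i j : ℕ, C.index = i * j → Nat.card C ∣ j * Nat.card C := fun _ j _ => dvd_mul_left _ j
    have h8 : ∀ m : ℕ, m ∣ C.index → Nat.card C ∣ 6048 / m := fun m ⟨j, hj⟩ => by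
      rcases Nat.eq_zero_or_pos m with rfl | hm
      · rw [hj, zero_mul, zero_mul] at hi; omega
      · refine ⟨j, ?_⟩
        rw [← hi, hj, mul_assoc, Nat.mul_div_cancel_left _ hm, mul_comm]
    refine ⟨fun h0 => ?_, ?_⟩
    · rw [h0] at hk2
      have h32 : 32 ∣ C.index := by omega
      exact (Nat.dvd_gcd h864 (h8 32 h32)).trans (by norm_num)
    · have h8' : 8 ∣ C.index := by rcases (hα y hy).1 with e | e | e <;> rw [e] at hk2 <;> omega
      exact (Nat.dvd_gcd h864 (h8 8 h8')).trans (by norm_num)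
  refine ⟨α, ⟨inferInstance, h, h9, fun y hy => (hα y hy).1, fun c y => ?_, fun y hy => ?_,
    fun y hy => (hcen y hy).2, fun y hy => (hcen y hy).1, ?_, ?_⟩⟩
  · have hc : orderOf (c * y * c⁻¹) = orderOf y := (MulAut.conj c).orderOf_eq y
    by_cases hy : orderOf y = 3
    · exact heq _ _ (hc.trans hy) hy (Char.irr_isClassFunction f.2 y c)
    · simp only [α, hc, dif_neg hy]
  · refine heq _ _ (by rw [orderOf_inv, hy]) hy ?_
    rw [← hinv y hy]
    refine congrArg (f : G → ℂ) (eq_inv_of_mul_eq_one_left ?_).symm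
    rw [mul_assoc, ← pow_three, ← hy, pow_orderOf_eq_one]
  · -- subgroups of order nine
    intro a b ha hb hab hnb
    obtain ⟨m, ρ, -, hρ⟩ := f.2
    have hfix : ∀ H : Subgroup G, ∃ n : ℕ,
        ∑ y : H, (f : G → ℂ) y = (Nat.card H : ℂ) * n ∧
        n = Module.finrank ℂ (Representation.invariants (ρ.comp H.subtype)) := by
      intro H
      have : Invertible (Nat.card H : ℂ) := invertibleOfNonzero (Nat.cast_ne_zero.2 Nat.card_pos.ne')
      refine ⟨_, ?_, rfl⟩
      rw [← Representation.card_inv_mul_sum_char_eq_finrank (ρ.comp H.subtype), ← mul_assoc,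
        mul_inv_cancel₀ (Nat.cast_ne_zero.2 Nat.card_pos.ne'), one_mul, ← hρ]
      rfl
    have hlin : ∀ c : G, orderOf c = 3 → ∃ n : ℕ,
        (n : ℤ) = 2 + 2 * α c ∧
        n = Module.finrank ℂ (Representation.invariants (ρ.comp (Subgroup.zpowers c).subtype)) := by
      intro c hc
      obtain ⟨n, hn, hn'⟩ := hfix (Subgroup.zpowers c)
      refine ⟨n, ?_, hn'⟩
      rw [Nat.card_zpowers, hc, ← Equiv.sum_comp (finEquivZPowers (isOfFinOrder_of_finite c))] at hn
      simp only [finEquivZPowers_apply] at hn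
      rw [Fin.sum_univ_eq_sum_range (fun i => (f : G → ℂ) (c ^ i)), hc, Finset.sum_range_succ,
        Finset.sum_range_succ, Finset.sum_range_one, pow_zero, pow_one, pow_two, hf1, hinv c hc,
        (hα c hc).2] at hn
      have : (((n : ℤ) : ℂ)) = ((2 + 2 * α c : ℤ) : ℂ) := by
        push_cast at hn ⊢
        linear_combination -hn / 3
      exact_mod_cast this
    have ha3 : a ^ 3 = 1 := by rw [← ha, pow_orderOf_eq_one]
    have hb3 : b ^ 3 = 1 := by rw [← hb, pow_orderOf_eq_one]
    have hC : Commute a b := hab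
    let φ : Subgroup.zpowers a × Subgroup.zpowers b →* G :=
      MonoidHom.noncommCoprod (Subgroup.zpowers a).subtype (Subgroup.zpowers b).subtype fun x y => by
        obtain ⟨i, hi⟩ := Subgroup.mem_zpowers_iff.1 x.2
        obtain ⟨j, hj⟩ := Subgroup.mem_zpowers_iff.1 y.2
        show Commute (x : G) (y : G)
        rw [← hi, ← hj]
        exact hC.zpow_zpow i j
    have hφ : ∀ i j : ℕ, φ (⟨a ^ i, pow_mem (Subgroup.mem_zpowers a) i⟩,
        ⟨b ^ j, pow_mem (Subgroup.mem_zpowers b) j⟩) = a ^ i * b ^ j := fun i j => rfl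
    have hinj : Function.Injective φ := (injective_iff_map_eq_one φ).2 fun ⟨x, y⟩ hxy => by
      have hxy' : (x : G) * y = 1 := hxy
      have hym : (y : G) ∈ Subgroup.zpowers a := by
        rw [eq_inv_of_mul_eq_one_right hxy']; exact inv_mem x.2
      have hy1 : (y : G) = 1 := by
        by_contra hne1
        have : Subgroup.zpowers (y : G) = Subgroup.zpowers b := by
          refine Subgroup.eq_of_le_of_card_ge (Subgroup.zpowers_le.2 y.2) ?_
          rw [Nat.card_zpowers, Nat.card_zpowers, hb]
          have hd : orderOf (y : G) ∣ 3 := hb ▸ Nat.card_zpowers b ▸ Subgroup.orderOf_dvd_natCard _ y.2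
          rw [((Nat.dvd_prime Nat.prime_three).1 hd).resolve_left
            fun e => hne1 (orderOf_eq_one_iff.1 e)]
        exact hnb ((this ▸ Subgroup.zpowers_le.2 hym) (Subgroup.mem_zpowers b))
      rw [hy1, mul_one] at hxy'
      exact Prod.ext (Subtype.ext hxy') (Subtype.ext hy1)
    set R := φ.range with hR
    have hR9 : Nat.card R = 9 := by
      rw [hR, ← Nat.card_congr (MonoidHom.ofInjective hinj).toEquiv, Nat.card_prod, Nat.card_zpowers,
        Nat.card_zpowers, ha, hb]
    have hpow : ∀ i j : ℕ, a ^ i * b ^ j ∈ R := fun i j => ⟨_, hφ i j⟩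
    obtain ⟨n, hn, hn'⟩ := hfix R
    have hord : ∀ c : G, c ^ 3 = 1 → c ≠ 1 → orderOf c = 3 := fun c h1 h2 => orderOf_eq_prime h1 h2
    have hne1 : ∀ i j : Fin 3, (i : ℕ) + 3 * j ≠ 0 → a ^ (i : ℕ) * b ^ (j : ℕ) ≠ 1 := by
      intro i j hij e
      have e2 := (injective_iff_map_eq_one φ).1 hinj _ ((hφ i j).trans e)
      rw [Prod.ext_iff] at e2
      have e3 := congrArg Subtype.val e2.1
      have e4 := congrArg Subtype.val e2.2
      simp only [Prod.fst_one, Prod.snd_one, OneMemClass.coe_one] at e3 e4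
      have h5 := orderOf_dvd_of_pow_eq_one e3
      have h6 := orderOf_dvd_of_pow_eq_one e4
      rw [ha] at h5
      rw [hb] at h6
      omega
    have hcube : ∀ i j : ℕ, (a ^ i * b ^ j) ^ 3 = 1 := fun i j => by
      rw [(hC.pow_pow i j).mul_pow, ← pow_mul, ← pow_mul, mul_comm i, mul_comm j, pow_mul, pow_mul,
        ha3, hb3, one_pow, one_pow, one_mul]
    have o1 : orderOf (a * b) = 3 := hord _ (by simpa using hcube 1 1) (by simpa using hne1 1 1 (by decide))
    have o2 : orderOf (a * b * b) = 3 := hord _ (by simpa [pow_two, mul_assoc] using hcube 1 2)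
      (by simpa [pow_two, mul_assoc] using hne1 1 2 (by decide))
    have hle : ∀ c : G, c ∈ R → orderOf c = 3 → (n : ℤ) ≤ 2 + 2 * α c := by
      intro c hc hc3
      obtain ⟨m', hm, hm'⟩ := hlin c hc3
      rw [← hm, hn', hm']
      refine Int.ofNat_le.2 (Submodule.finrank_mono fun v hv => ?_)
      rw [Representation.mem_invariants] at hv ⊢
      intro z
      exact hv ⟨(z : G), Subgroup.zpowers_le.2 hc z.2⟩
    have hs : (n : ℤ) * 9 = 6 + 6 * (α a + α b + α (a * b) + α (a * b * b)) := by
      have hsum : ∑ y : R, (f : G → ℂ) y = ∑ p : Fin 3 × Fin 3, (f : G → ℂ) (a ^ (p.1 : ℕ) * b ^ (p.2 : ℕ)) := by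
        refine (Fintype.sum_bijective (fun p : Fin 3 × Fin 3 => (⟨_, hpow p.1 p.2⟩ : R)) ?_ _ _
          fun p => rfl).symm
        refine (Nat.bijective_iff_injective_and_card _).2 ⟨fun p q e => ?_, by
          rw [hR9, Nat.card_eq_fintype_card]; rfl⟩
        have e1 := congrArg Subtype.val e
        have e2 := hinj (a₁ := (_, _)) (a₂ := (_, _)) ((hφ p.1 p.2).trans (e1.trans (hφ q.1 q.2).symm))
        rw [Prod.ext_iff, Subtype.ext_iff, Subtype.ext_iff] at e2
        have h5 := pow_eq_pow_iff_modEq.1 e2.1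
        have h6 := pow_eq_pow_iff_modEq.1 e2.2
        rw [ha, Nat.ModEq] at h5
        rw [hb, Nat.ModEq] at h6
        refine Prod.ext (Fin.ext ?_) (Fin.ext ?_) <;> omega
      replace hn : ∑ p : Fin 3 × Fin 3, (f : G → ℂ) (a ^ (p.1 : ℕ) * b ^ (p.2 : ℕ)) =
          ((9 : ℕ) : ℂ) * n := by
        rw [← hsum, ← hR9]
        convert hn
      rw [Fintype.sum_prod_type] at hn
      simp only [Fin.sum_univ_three, Fin.val_zero, Fin.val_one, Fin.val_two, pow_zero, pow_one, one_mul,
        mul_one, pow_two] at hn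
      have e1 : a * a * (b * b) = (a * b) * (a * b) := hC.mul_mul_mul_comm a b
      have e2 : a * a * b = (a * b * b) * (a * b * b) := by
        have : (a * b * b) * (a * b * b) = (a * a) * ((b * b) * (b * b)) := by
          rw [mul_assoc a b b]
          exact (Commute.mul_right hC hC).symm.mul_mul_mul_comm a (b * b)
        rw [this, show b * b * (b * b) = b by
          rw [← mul_assoc, show b * b * b = 1 by rw [mul_assoc, ← pow_three, hb3], one_mul]]
      rw [hf1, hinv a ha, hinv b hb, e1, hinv _ o1, e2, hinv _ o2, ← mul_assoc, (hα a ha).2, (hα b hb).2,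
        (hα _ o1).2, (hα _ o2).2] at hn
      have : ((((n : ℤ) * 9 : ℤ)) : ℂ) = ((6 + 6 * (α a + α b + α (a * b) + α (a * b * b)) : ℤ) : ℂ) := by
        push_cast at hn ⊢
        linear_combination -hn
      exact_mod_cast this
    have ma : a ∈ R := by simpa using hpow 1 0
    have mb : b ∈ R := by simpa using hpow 0 1
    have h1 := hle a ma ha
    have h2 := hle b mb hb
    have h3 := hle _ (mul_mem ma mb) o1
    have h4 := hle _ (mul_mem (mul_mem ma mb) mb) o2
    unfold Pattern
    omega
  · -- subgroups of order 27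
    intro Q hQ
    have := Fintype.ofFinite Q
    obtain ⟨n, hn⟩ := Char.classInner_isCharacter_nat
      (Char.isCharacter_comp (Char.irr_isCharacter f.2) Q.subtype)
      (Char.isCharacter_comp (Char.irr_isCharacter f.2) Q.subtype)
    rw [Char.classInner_def, hQ] at hn
    simp only [Function.comp_apply, Subgroup.coe_subtype] at hn
    have hord : ∀ y : Q, (y : G) ≠ 1 → orderOf (y : G) = 3 := by
      intro y hy
      have hd : orderOf (y : G) ∣ 3 ^ 3 := by
        rw [Subgroup.orderOf_coe, show 3 ^ 3 = Nat.card Q by rw [hQ]; norm_num]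
        exact orderOf_dvd_natCard y
      obtain ⟨j, hj, hj'⟩ := (Nat.dvd_prime_pow Nat.prime_three).1 hd
      interval_cases j
      · exact absurd (orderOf_eq_one_iff.1 hj') hy
      · exact hj'
      · exact absurd hj' (h9 _)
      · exfalso
        have := orderOf_pow_of_dvd (x := (y : G)) (n := 3) (by norm_num) (by rw [hj']; norm_num)
        rw [hj'] at this
        exact h9 _ this
    have hv : ∀ y : Q, (f : G → ℂ) y * conj ((f : G → ℂ) y) =
        (((if (y : G) = 1 then 36 else 0) +
          (if orderOf (y : G) = 3 ∧ α y ≠ 0 then 9 else 0) : ℕ) : ℂ) := by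
      intro y
      by_cases hy : (y : G) = 1
      · rw [if_pos hy, if_neg fun e => by rw [hy, orderOf_one] at e; omega, hy, hf1, map_ofNat]
        norm_num
      · rw [if_neg hy, (hα _ (hord y hy)).2, map_mul, map_ofNat, map_intCast]
        rcases (hα _ (hord y hy)).1 with e | e | e <;> rw [e] <;> simp [hord y hy] <;> norm_num
    rw [Finset.sum_congr rfl fun y _ => hv y, ← Nat.cast_sum, Finset.sum_add_distrib] at hn
    have hone : ∀ y : Q, ((y : G) = 1) = (y = 1) := fun y => propext OneMemClass.coe_eq_one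
    simp only [hone, Finset.sum_ite_eq', Finset.mem_univ, if_true] at hn
    rw [← Finset.sum_filter, Finset.sum_const, smul_eq_mul] at hn
    rw [Nat.card_eq_fintype_card, Fintype.card_subtype]
    have h27 : (((36 + (Finset.univ.filter fun y : Q => orderOf (y : G) = 3 ∧ α y ≠ 0).card * 9 : ℕ)) : ℂ) =
        ((27 * n : ℕ) : ℂ) := by
      push_cast at hn ⊢
      rw [← hn]; ring
    have := Nat.cast_inj.1 h27
    omega

end CfsgLib.Recog.USixty
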