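import Cfsg.Agent.Lib.Recog.UThreeThree
import Cfsg.Agent.Lib.KnownC.AutPSUOut
import Cfsg.Agent.Lib.Classical.SUCenter
import Cfsg.Agent.Lib.KnownC.FieldAut
import Cfsg.Agent.Lib.Classical.UnitaryGen
import Cfsg.Agent.Lib.Recog.USixty.Chars

/-!
# The automorphism group of `PSU_3(3)`: order 12096, no elements of order 9, 14 or 21
-/

set_option autoImplicit false
set_option linter.unusedSectionVars false

namespace CfsgLib.Recog.USixty

open Matrix CfsgLib.KnownC

/-- Multiplication by the root of a monic cubic. -/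
def cubeStep (c : ZMod 3 × ZMod 3 × ZMod 3) (x : ZMod 3 × ZMod 3 × ZMod 3) : ZMod 3 × ZMod 3 × ZMod 3 :=
  (x.2.2 * c.1, x.1 + x.2.2 * c.2.1, x.2.1 + x.2.2 * c.2.2)

set_option maxRecDepth 100000 in
theorem cube_exponent : ∀ c₁ c₂ : ZMod 3, (cubeStep (1, c₁, c₂))^[936] (1, 0, 0) = (1, 0, 0) := by
  decide +kernel

variable {K : Type} [Field K] [Fintype K]

section Mat

variable [CharP K 3]

/-- A matrix annihilated by a monic cubic over the prime field with constant term one, of order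
dividing seven, is one. -/
theorem eq_one_of_cubic {A : Matrix (Fin 3) (Fin 3) K} (c₁ c₂ : ZMod 3)
    (h : A ^ 3 = (1 : K) • (1 : Matrix (Fin 3) (Fin 3) K) + (ZMod.castHom dvd_rfl K c₁) • A +
      (ZMod.castHom dvd_rfl K c₂) • A ^ 2) (h7 : A ^ 7 = 1) : A = 1 := by
  let ι := ZMod.castHom (dvd_refl 3) K
  let φ : ZMod 3 × ZMod 3 × ZMod 3 → Matrix (Fin 3) (Fin 3) K := fun x =>
    ι x.1 • 1 + ι x.2.1 • A + ι x.2.2 • A ^ 2
  have hstep : ∀ x, A * φ x = φ (cubeStep (1, c₁, c₂) x) := fun x => by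
    simp only [φ, cubeStep, mul_add, mul_smul_comm, mul_one, ← pow_two, ← pow_succ', map_add, map_mul,
      map_one, mul_one]
    rw [h]
    simp only [one_smul, smul_add, smul_smul, add_smul]
    abel
  have hpow : ∀ n : ℕ, A ^ n = φ ((cubeStep (1, c₁, c₂))^[n] (1, 0, 0)) := by
    intro n
    induction n with
    | zero => simp [φ]
    | succ n ih => rw [pow_succ', ih, hstep, Function.iterate_succ_apply']
  have h936 : A ^ 936 = 1 := by
    rw [hpow, cube_exponent]
    simp [φ]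
  simpa using (pow_gcd_eq_one.2 ⟨h7, h936⟩ : A ^ Nat.gcd 7 936 = 1)

/-- The field automorphism is the cube map. -/
theorem ringAut_cases (hK : Fintype.card K = 9) (ρ : K ≃+* K) :
    ρ = RingEquiv.refl K ∨ ∀ x, ρ x = x ^ 3 := by
  have : Fact (Nat.Prime 3) := ⟨Nat.prime_three⟩
  obtain ⟨φ, hφ, ho, hg⟩ := exists_ringAut_generator (F := K) (p := 3) (f := 2) (by rw [hK]; norm_num)
  obtain ⟨k, rfl⟩ := hg ρ
  have h2 : φ ^ (2 : ℤ) = 1 := by
    rw [zpow_two, ← pow_two, ← ho, pow_orderOf_eq_one]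
  rcases Int.emod_two_eq k with h | h
  · left
    show φ ^ k = 1
    rw [← Int.emod_add_mul_ediv k 2, _root_.zpow_add, _root_.zpow_mul, h2, _root_.one_zpow, h, zpow_zero, mul_one]
  · right
    intro x
    show (φ ^ k) x = x ^ 3
    rw [← Int.emod_add_mul_ediv k 2, _root_.zpow_add, _root_.zpow_mul, h2, _root_.one_zpow, h, zpow_one, mul_one, hφ]

theorem cube_eq_self {x : K} (h : x ^ 3 = x) : ∃ c : ZMod 3, ZMod.castHom (dvd_refl 3) K c = x := by
  have e : x * (x - 1) * (x + 1) = 0 := by linear_combination h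
  rcases mul_eq_zero.1 e with e | e
  · rcases mul_eq_zero.1 e with e | e
    · exact ⟨0, by rw [map_zero, e]⟩
    · exact ⟨1, by rw [map_one, sub_eq_zero.1 e]⟩
  · exact ⟨-1, by rw [map_neg, map_one, eq_neg_of_add_eq_zero_left e]⟩

/-- No element of order seven is fixed by a semilinear map with nontrivial field part. -/
theorem no_fixed_seven {ρ : K ≃+* K} (hρ : ∀ x, ρ x = x ^ 3) {A g : Matrix (Fin 3) (Fin 3) K}
    (hg : IsUnit g) (hdet : A.det = 1) (h7 : A ^ 7 = 1) (hfix : g * A.map ρ = A * g) : A = 1 := by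
  obtain ⟨u, rfl⟩ := hg
  have hconj : A = u.val * A.map ρ * u⁻¹.val := by
    rw [hfix, mul_assoc, Units.mul_inv, mul_one]
  have hp : A.charpoly = A.charpoly.map (ρ : K →+* K) := by
    conv_lhs => rw [hconj]
    rw [Matrix.coe_units_inv, Matrix.charpoly_units_conj]
    exact Matrix.charpoly_map A (ρ : K →+* K)
  have hfix' : ∀ i, A.charpoly.coeff i ^ 3 = A.charpoly.coeff i := fun i => by
    conv_rhs => rw [hp, Polynomial.coeff_map]
    exact (hρ _).symm
  obtain ⟨c₁, hc₁⟩ := cube_eq_self (x := -A.charpoly.coeff 1) (by rw [neg_pow, hfix']; ring)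
  obtain ⟨c₂, hc₂⟩ := cube_eq_self (x := -A.charpoly.coeff 2) (by rw [neg_pow, hfix']; ring)
  refine eq_one_of_cubic c₁ c₂ ?_ h7
  have h := Matrix.aeval_self_charpoly A
  rw [Polynomial.aeval_eq_sum_range, Matrix.charpoly_natDegree_eq_dim, Fintype.card_fin] at h
  have h0 : A.charpoly.coeff 0 = -1 := by
    have := Matrix.det_eq_sign_charpoly_coeff A
    rw [hdet, Fintype.card_fin] at this
    linear_combination this
  have h3 : A.charpoly.coeff 3 = 1 := by
    have := Matrix.charpoly_monic A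
    rw [Polynomial.Monic, Polynomial.leadingCoeff, Matrix.charpoly_natDegree_eq_dim, Fintype.card_fin] at this
    exact this
  simp only [Finset.sum_range_succ, Finset.sum_range_zero, pow_zero, pow_one, h0, h3, one_smul,
    zero_add, neg_smul] at h
  rw [hc₁, hc₂]
  simp only [one_smul, neg_smul]
  rw [← sub_eq_zero]
  rw [← h]
  abel

end Mat

theorem card_su (hK : Fintype.card K = 9) : Nat.card (Cfsg.SU 3 K 3) = 6048 ∧
    Nat.card (Subgroup.center (Cfsg.SU 3 K 3)) = 1 := by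
  have hK' : Fintype.card K = 3 ^ 2 := hK
  have hc := CfsgLib.Classical.card_center_su hK' (n := 3) (by norm_num)
  have hp := CfsgLib.Classical.card_psu_mul hK' (n := 3) (by norm_num)
  rw [CfsgLib.Classical.card_gu hK' 3] at hp
  norm_num [Finset.prod_range_succ] at hp
  rw [show Nat.gcd 3 (3 + 1) = 1 by norm_num] at hc
  refine ⟨?_, hc⟩
  rw [Subgroup.card_eq_card_quotient_mul_card_subgroup (Subgroup.center (Cfsg.SU 3 K 3)), hc, mul_one]
  change Nat.card (Cfsg.PSU 3 K 3) = 6048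
  omega

theorem card_psu (hK : Fintype.card K = 9) : Nat.card (Cfsg.PSU 3 K 3) = 6048 := by
  obtain ⟨h1, h2⟩ := card_su hK
  have := Subgroup.card_eq_card_quotient_mul_card_subgroup (Subgroup.center (Cfsg.SU 3 K 3))
  rw [h1, h2, mul_one] at this
  exact this.symm

theorem card_aut (hK : Fintype.card K = 9) : Nat.card (MulAut (Cfsg.PSU 3 K 3)) = 12096 := by
  have : Fact (Nat.Prime 3) := ⟨Nat.prime_three⟩
  rw [card_mulAut_psu (q := 3) (by rw [hK]; norm_num) le_rfl (by norm_num),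
    (exists_zmod_mulEquiv_ringAut (p := 3) (f := 2) (by rw [hK]; norm_num)).1, card_psu hK]
  norm_num

theorem simple_psu (hK : Fintype.card K = 9) : IsSimpleGroup (Cfsg.PSU 3 K 3) :=
  CfsgLib.Classical.isSimpleGroup_psu (q := 3) (by rw [hK]; norm_num) le_rfl (by norm_num)

theorem psu_orders (hK : Fintype.card K = 9) (x : Cfsg.PSU 3 K 3) :
    orderOf x ≠ 9 ∧ orderOf x ≠ 14 ∧ orderOf x ≠ 21 := by
  have h := (CfsgLib.Recog.UThreeThree.range_orderOf_psu hK).le ⟨x, rfl⟩
  simp only [Set.mem_ofPred_eq, List.mem_cons, List.not_mem_nil, or_false] at h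
  omega

theorem aut_orders (hK : Fintype.card K = 9) (σ : MulAut (Cfsg.PSU 3 K 3)) :
    orderOf σ ≠ 9 ∧ orderOf σ ≠ 14 ∧ orderOf σ ≠ 21 := by
  have : Fact (Nat.Prime 3) := ⟨Nat.prime_three⟩
  have : CharP K 3 := charP_of_card_eq_prime_pow (f := 2) (by rw [hK]; norm_num)
  have hS := simple_psu hK
  let c : Cfsg.PSU 3 K 3 →* MulAut (Cfsg.PSU 3 K 3) := MulAut.conj
  have hinj : Function.Injective c := by
    rw [← MonoidHom.ker_eq_bot_iff]
    refine (c.normal_ker.eq_bot_or_eq_top).resolve_right fun h => ?_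
    have hc : IsMulCommutative (Cfsg.PSU 3 K 3) := ⟨⟨fun a b => by
      have := DFunLike.congr_fun (MonoidHom.mem_ker.1 (h ▸ Subgroup.mem_top a : a ∈ c.ker)) b
      exact mul_inv_eq_iff_eq_mul.1 this⟩⟩
    exact not_comm (card_psu hK) hc
  have hnorm : c.range.Normal := ⟨by
    rintro _ ⟨x, rfl⟩ β
    exact ⟨β x, MulEquiv.ext fun y => by simp [c]⟩⟩
  have hidx : c.range.index = 2 := by
    have := c.range.card_mul_index
    rw [← Nat.card_congr (MonoidHom.ofInjective hinj).toEquiv, card_psu hK, card_aut hK] at this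
    omega
  have hodd : ∀ σ : MulAut (Cfsg.PSU 3 K 3), Odd (orderOf σ) → σ ∈ c.range := fun σ hσ => by
    obtain ⟨m, hm⟩ := hσ
    have h2 := Subgroup.mul_self_mem_of_index_two hidx (σ ^ (m + 1))
    rwa [← pow_add, show m + 1 + (m + 1) = orderOf σ + 1 by omega, pow_succ, pow_orderOf_eq_one,
      one_mul] at h2
  refine ⟨fun h => ?_, fun h => ?_, fun h => ?_⟩
  · obtain ⟨x, rfl⟩ := hodd σ (h ▸ by decide)
    exact (psu_orders hK x).1 (by rw [← orderOf_injective c hinj x, h])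
  swap
  · obtain ⟨x, rfl⟩ := hodd σ (h ▸ by decide)
    exact (psu_orders hK x).2.2 (by rw [← orderOf_injective c hinj x, h])
  -- an element of order fourteen
  have h7 : orderOf (σ ^ 2) = 7 := by
    rw [orderOf_pow, h]; norm_num
  have h2 : orderOf (σ ^ 7) = 2 := by
    rw [orderOf_pow, h]; norm_num
  obtain ⟨x, hx⟩ := hodd (σ ^ 2) (h7 ▸ by decide)
  have hx7 : orderOf x = 7 := by rw [← orderOf_injective c hinj x, hx, h7]
  have hcomm : Commute (σ ^ 7) (σ ^ 2) := (Commute.refl σ).pow_pow _ _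
  have hfix : (σ ^ 7) x = x := by
    refine hinj ?_
    rw [show c ((σ ^ 7) x) = σ ^ 7 * c x * (σ ^ 7)⁻¹ from MulEquiv.ext fun y => by simp [c], hx,
      hcomm.eq, mul_inv_cancel_right]
  have hinner : σ ^ 7 ∉ c.range := by
    rintro ⟨y, hy⟩
    have hy2 : orderOf y = 2 := by rw [← orderOf_injective c hinj y, hy, h2]
    have hc : Commute y x := hinj (by rw [map_mul, map_mul, hy, hx, hcomm.eq])
    refine (psu_orders hK (y * x)).2.1 ?_
    rw [hc.orderOf_mul_eq_mul_orderOf_of_coprime (by rw [hy2, hx7]; norm_num), hy2, hx7]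
  obtain ⟨g, ρ, hgρ⟩ := exists_psuSemiAut (q := 3) (by rw [hK]; norm_num) le_rfl (by norm_num) (σ ^ 7)
  rcases ringAut_cases hK ρ with rfl | hρ
  · refine hinner ?_
    have hle : Cfsg.Inn (Cfsg.PSU 3 K 3) ≤ Cfsg.inndiagPSU 3 K 3 :=
      inn_le_inndiagPSU (by rw [hK]; norm_num) (by norm_num)
    have heq := Subgroup.eq_of_le_of_card_ge hle (by
      rw [card_inndiagPSU (q := 3) (by rw [hK]; norm_num) le_rfl (by norm_num),
        card_inn_psu (q := 3) (by rw [hK]; norm_num) le_rfl (by norm_num)]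
      norm_num)
    have : σ ^ 7 ∈ Cfsg.inndiagPSU 3 K 3 := by
      rw [inndiagPSU_eq_range]
      exact ⟨g, hgρ.symm⟩
    rw [← heq] at this
    exact this
  · obtain ⟨s, rfl⟩ := QuotientGroup.mk_surjective x
    have hcen : Subgroup.center (Cfsg.SU 3 K 3) = ⊥ :=
      Subgroup.eq_bot_of_card_eq _ (card_su hK).2
    have hs7 : s ^ 7 = 1 := by
      have := pow_orderOf_eq_one (QuotientGroup.mk s : Cfsg.PSU 3 K 3)
      rw [hx7, ← QuotientGroup.mk_pow, QuotientGroup.eq_one_iff] at this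
      exact Subgroup.mem_bot.1 (hcen ▸ this)
    rw [hgρ, psuSemiAut_mk, QuotientGroup.eq, hcen, Subgroup.mem_bot, inv_mul_eq_one] at hfix
    have hm := congrArg (fun t : Cfsg.SU 3 K 3 => (t.1.1 : Matrix (Fin 3) (Fin 3) K)) hfix
    have hs1 : s.1.1 = 1 := by
      refine no_fixed_seven hρ (g := g.1.1) g.1.isUnit s.1.2 ?_ ?_
      · exact congrArg (fun t : Cfsg.SU 3 K 3 => (t.1.1 : Matrix (Fin 3) (Fin 3) K)) hs7
      · have hm' : g.1.1 * s.1.1.map ρ * (g.1⁻¹).1 = s.1.1 := hm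
        conv_rhs => rw [← hm', mul_assoc, Units.inv_mul, mul_one]
    rw [show s = 1 from Subtype.ext (Subtype.ext hs1), QuotientGroup.mk_one, orderOf_one] at hx7
    norm_num at hx7

end CfsgLib.Recog.USixty
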