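import Cfsg.Agent.Lib.Recog.USixty.AutSpectrum
import Cfsg.Agent.Lib.Chev.G2Two
import Cfsg.Agent.Lib.Chev.StBruhat
import Cfsg.Agent.Lib.Chev.OrderTables

/-!
# `G₂(2) ≅ Aut(PSU_3(3))`
-/

set_option autoImplicit false

namespace CfsgLib.Recog.USixty

open Cfsg Cfsg.Lie

theorem card_gTwo {F : Type*} [Field F] [Fintype F] (hF : Fintype.card F = 2) :
    Nat.card ↥(chevG2.group F) = 12096 := by
  have := CfsgLib.Chev.card_groupG2 F
  rw [hF] at this
  norm_num at this
  exact this

/-- `G₂(2)` is the automorphism group of `PSU_3(3)`. -/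
theorem gTwo_iso_mulAut {F : Type*} [Field F] [Fintype F] (hF : Fintype.card F = 2)
    {K : Type} [Field K] [Fintype K] (hK : Fintype.card K = 9) :
    Nonempty (↥(chevG2.group F) ≃* MulAut (Cfsg.PSU 3 K 3)) := by
  obtain ⟨e⟩ := CfsgLib.Chev.G2Two.iso hF hK
  have hS := simple_psu hK
  let ψ : ↥(chevG2.group F) →* MulAut ↥(commutator ↥(chevG2.group F)) := MulAut.conjNormal
  have hcD : Nat.card ↥(commutator ↥(chevG2.group F)) = 6048 := (Nat.card_congr e.toEquiv).trans (card_psu hK)
  have hcard := card_gTwo hF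
  have hfin : Finite ↥(chevG2.group F) := Nat.finite_of_card_ne_zero (by rw [hcard]; norm_num)
  have hker : ψ.ker = ⊥ := by
    have hinf : ψ.ker ⊓ commutator ↥(chevG2.group F) = ⊥ := by
      rw [eq_bot_iff]
      intro x hx
      obtain ⟨hx, hxD⟩ := Subgroup.mem_inf.1 hx
      have hz : e ⟨x, hxD⟩ ∈ Subgroup.center (Cfsg.PSU 3 K 3) := by
        refine Subgroup.mem_center_iff.2 fun y => ?_
        obtain ⟨d, rfl⟩ := e.surjective y
        rw [← map_mul, ← map_mul]
        refine congrArg e (Subtype.ext ?_)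
        have he := congrArg Subtype.val (DFunLike.congr_fun (MonoidHom.mem_ker.1 hx) d)
        have he' : x * (d : ↥(chevG2.group F)) * x⁻¹ = d := he
        exact (mul_inv_eq_iff_eq_mul.1 he').symm
      have hbot : Subgroup.center (Cfsg.PSU 3 K 3) = ⊥ := by
        rcases (inferInstance : (Subgroup.center (Cfsg.PSU 3 K 3)).Normal).eq_bot_or_eq_top with h | h
        · exact h
        · exact absurd ⟨⟨fun a b => Subgroup.mem_center_iff.1 (h.ge (Subgroup.mem_top b)) a⟩⟩
            (not_comm (card_psu hK))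
      rw [hbot, Subgroup.mem_bot, MulEquiv.map_eq_one_iff] at hz
      exact Subgroup.mem_bot.2 (congrArg Subtype.val hz)
    have hle : Nat.card ψ.ker * 6048 ≤ 12096 := by
      rw [← hcD, ← hcard, ← Nat.card_prod]
      refine Nat.card_le_card_of_injective (fun p : ψ.ker × ↥(commutator ↥(chevG2.group F)) =>
        (p.1 : ↥(chevG2.group F)) * p.2) fun p q e => ?_
      have e' : (p.1 : ↥(chevG2.group F)) * p.2 = q.1 * q.2 := e
      have hm : (q.1 : ↥(chevG2.group F))⁻¹ * p.1 ∈ ψ.ker ⊓ commutator ↥(chevG2.group F) := by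
        refine Subgroup.mem_inf.2 ⟨mul_mem (inv_mem q.1.2) p.1.2, ?_⟩
        have : (q.1 : ↥(chevG2.group F))⁻¹ * p.1 = q.2 * (p.2 : ↥(chevG2.group F))⁻¹ := by
          rw [inv_mul_eq_iff_eq_mul, ← mul_assoc, ← e']; group
        rw [this]; exact mul_mem q.2.2 (inv_mem p.2.2)
      rw [hinf, Subgroup.mem_bot, inv_mul_eq_one] at hm
      rw [hm] at e'
      exact Prod.ext (Subtype.ext hm.symm) (Subtype.ext (mul_left_cancel e'))
    -- a normal subgroup of order at most two is central
    have hcen : ψ.ker ≤ Subgroup.center ↥(chevG2.group F) := by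
      intro x hx
      refine Subgroup.mem_center_iff.2 fun g => ?_
      rcases eq_or_ne x 1 with rfl | hx1
      · rw [mul_one, one_mul]
      refine mul_inv_eq_iff_eq_mul.1 ?_
      by_contra hne
      have h3 : 3 ≤ Nat.card ψ.ker := by
        let f : Fin 3 → ψ.ker := ![⟨1, one_mem _⟩, ⟨x, hx⟩, ⟨g * x * g⁻¹, ψ.normal_ker.conj_mem x hx g⟩]
        have hne1 : g * x * g⁻¹ ≠ 1 := fun e1 => hx1 (conj_eq_one_iff.1 e1)
        have hf : Function.Injective f := fun i j hij => by
          have hij' := congrArg Subtype.val hij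
          fin_cases i <;> fin_cases j <;> simp [f] at hij' ⊢ <;>
            first | exact hne hij'.symm | exact hne hij' | exact hx1 hij' | exact hx1 hij'.symm |
              exact hne1 hij' | exact hne1 hij'.symm
        simpa using Nat.card_le_card_of_injective f hf
      omega
    rw [CfsgLib.Chev.Good.center_group_eq_bot CfsgLib.Chev.goodG2 (CfsgLib.Chev.hasComm_of_mem (by simp))] at hcen
    exact le_bot_iff.1 hcen
  have hc2 : Nat.card (MulAut ↥(commutator ↥(chevG2.group F))) = 12096 := by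
    rw [Nat.card_congr (MulAut.congr e).toEquiv, card_aut hK]
  have hb : Function.Bijective ψ := by
    have : Finite (MulAut ↥(commutator ↥(chevG2.group F))) :=
      Nat.finite_of_card_ne_zero (by rw [hc2]; norm_num)
    exact (Nat.bijective_iff_injective_and_card ψ).2
      ⟨(MonoidHom.ker_eq_bot_iff ψ).1 hker, hcard.trans hc2.symm⟩
  exact ⟨(MulEquiv.ofBijective ψ hb).trans (MulAut.congr e)⟩

end CfsgLib.Recog.USixty
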