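import Mathlib

/-!
# The twenty-eight point model: only one involutory swap is possible

Points `0, ..., 26` are the elements `a^i b^j w^k` (code `i + 3 j + 9 k`) and `27` is the point at infinity.
-/

set_option autoImplicit false

namespace CfsgLib.Recog.USixty.Search

def mN (x y : ℕ) : ℕ :=
  (x % 3 + y % 3) % 3 + 3 * ((x / 3 + y / 3) % 3) + 9 * ((x / 9 + y / 9 + 2 * (x / 3 % 3) * (y % 3)) % 3)

def pN (g : ℕ) : ℕ → ℕ
  | 0 => 0
  | n + 1 => mN (pN g n) g

def hN (x : ℕ) : ℕ :=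
  if x = 27 then 27 else mN (mN (pN 3 (x % 3)) (pN 4 (x / 3 % 3))) (9 * (2 * (x / 9) % 3))

def hp (x : ℕ) : ℕ → ℕ
  | 0 => x
  | n + 1 => hN (hp x n)

def T (u x : ℕ) : ℕ := if x = 27 then 27 else mN u x

def reps (r : ℕ) : ℕ := [9, 3, 12, 21].getD r 0

/-- The iterates of `hN`, five bits for each entry. -/
def hpT (x i : ℕ) : ℕ := (12405012721508980697161294234319989935101750617504144667679826482923150896165225296173781599197845224982300904115295322733912344881496415192152481216475423092748146500067039159971434639567715886333083842629838293142702886392438458933272219794063968639369835357647419956992858280141260552256585898441897294272887394319702563238132580352000 >>> (5 * (8 * x + i))) % 32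

def pos (x : ℕ) : ℕ × ℕ :=
  (((29025959436163917284314775434159730216416 >>> (5 * x)) % 32) / 8, ((29025959436163917284314775434159730216416 >>> (5 * x)) % 32) % 8)

def pm (p : ℕ) (r : ℕ) : ℕ :=
  ([[0, 1, 2], [0, 2, 1], [1, 0, 2], [1, 2, 0], [2, 0, 1], [2, 1, 0]].getD p []).getD r 0

/-- The images of the representatives. -/
def img (c : ℕ × ℕ × ℕ × ℕ × ℕ) (r : ℕ) : ℕ :=
  match r with
  | 0 => [9, 18].getD c.2.1 0
  | 1 => reps (1 + pm c.2.2.1 0)
  | 2 => hpT (reps (1 + pm c.2.2.1 1)) c.2.2.2.1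
  | _ => hpT (reps (1 + pm c.2.2.1 2)) c.2.2.2.2

def wt (c : ℕ × ℕ × ℕ × ℕ × ℕ) (x : ℕ) : ℕ :=
  if x = 0 then 27 else if x = 27 then 0 else hpT (img c (pos x).1) (c.1 * (pos x).2 % 8)

def okAt (f : ℕ → ℕ) (u : ℕ) : Bool :=
  (List.range 27).any fun b => T (f u) (f b) == 0 &&
    (List.range 8).any fun i => [1, 3].all fun x => f (T u (f x)) == T (f u) (f (T b (hpT x i)))

def candsAt (k : ℕ) : List (ℕ × ℕ × ℕ × ℕ × ℕ) :=
  (List.range 2).flatMap fun i0 => (List.range 6).flatMap fun p =>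
    (List.range 8).flatMap fun o1 => (List.range 8).map fun o2 => (k, i0, p, o1, o2)

theorem cands_check1 :
    ((candsAt 1).all fun c => !(okAt (wt c) 9 && okAt (wt c) 1) || decide (c = (5, 0, 2, 6, 5))) = true := by
  decide +kernel

theorem cands_check3 :
    ((candsAt 3).all fun c => !(okAt (wt c) 9 && okAt (wt c) 1) || decide (c = (5, 0, 2, 6, 5))) = true := by
  decide +kernel

theorem cands_check5 :
    ((candsAt 5).all fun c => !(okAt (wt c) 9 && okAt (wt c) 1) || decide (c = (5, 0, 2, 6, 5))) = true := by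
  decide +kernel

theorem cands_check7 :
    ((candsAt 7).all fun c => !(okAt (wt c) 9 && okAt (wt c) 1) || decide (c = (5, 0, 2, 6, 5))) = true := by
  decide +kernel

theorem cands_check {k : ℕ} (hk : k ∈ ([1, 3, 5, 7] : List ℕ)) {c : ℕ × ℕ × ℕ × ℕ × ℕ}
    (hc : c ∈ candsAt k) (h9 : okAt (wt c) 9 = true) (h1 : okAt (wt c) 1 = true) : c = (5, 0, 2, 6, 5) := by
  have h : ((candsAt k).all fun c => !(okAt (wt c) 9 && okAt (wt c) 1) || decide (c = (5, 0, 2, 6, 5))) = true := by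
    simp only [List.mem_cons, List.not_mem_nil, or_false] at hk
    rcases hk with rfl | rfl | rfl | rfl
    exacts [cands_check1, cands_check3, cands_check5, cands_check7]
  have := List.all_eq_true.1 h c hc
  simpa [h9, h1] using this

theorem hpT_eq : ∀ x < 28, ∀ i < 8, hpT x i = hp x i := by decide +kernel

theorem mN_lt (x y : ℕ) : mN x y < 27 := by unfold mN; omega

theorem pN_lt {g : ℕ} : ∀ n, pN g n < 27
  | 0 => by simp [pN]
  | n + 1 => mN_lt _ _

theorem hN_lt {x : ℕ} (h : x < 28) : hN x < 28 := by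
  unfold hN
  split_ifs
  · omega
  · exact (mN_lt _ _).trans (by norm_num)

theorem hp_lt {x : ℕ} (h : x < 28) : ∀ n, hp x n < 28
  | 0 => h
  | n + 1 => hN_lt (hp_lt h n)

theorem T_lt {u x : ℕ} : T u x < 28 := by
  unfold T
  split_ifs
  · omega
  · exact (mN_lt _ _).trans (by norm_num)

theorem pos_spec : ∀ x < 27, x ≠ 0 → (pos x).1 < 4 ∧ (pos x).2 < 8 ∧ hp (reps (pos x).1) (pos x).2 = x := by
  decide +kernel

theorem pos_big : ∀ x < 27, x ≠ 0 → x ≠ 9 → x ≠ 18 → 1 ≤ (pos x).1 := by decide +kernel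

theorem small_check : ∀ k ∈ ([1, 3, 5, 7] : List ℕ), ∀ y < 28,
    hp y (k * 2 % 8) = y → y = 0 ∨ y = 9 ∨ y = 18 ∨ y = 27 := by decide +kernel

theorem small_fix : ∀ k ∈ ([1, 3, 5, 7] : List ℕ), hp 9 (k * 2 % 8) = 9 ∧ hp 18 (k * 2 % 8) = 18 ∧
    hp 9 2 = 9 := by decide +kernel

theorem big_move : ∀ r < 4, 1 ≤ r → hp (reps r) 2 ≠ reps r := by decide +kernel

theorem rep_orbit : ∀ r < 4, ∀ s < 4, r ≠ s → ∀ i < 8, hp (reps r) i ≠ reps s := by decide +kernel

theorem reps_lt : ∀ r < 4, reps r < 27 ∧ reps r ≠ 0 := by decide +kernel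

theorem shift_check : ∀ k ∈ ([1, 3, 5, 7] : List ℕ), ∀ o < 8, ∀ o' < 8, ∃ i < 8, (k * i + o) % 8 = o' := by
  decide +kernel

theorem perm_check : ∀ m₁ < 3, ∀ m₂ < 3, ∀ m₃ < 3, (m₁ ≠ m₂ ∧ m₁ ≠ m₃ ∧ m₂ ≠ m₃) →
    ((List.range 6).any fun p => pm p 0 == m₁ && pm p 1 == m₂ && pm p 2 == m₃) = true := by
  decide +kernel

theorem mem_cands {k i0 p o1 o2 : ℕ} (h0 : i0 < 2) (hp' : p < 6)
    (h1 : o1 < 8) (h2 : o2 < 8) : (k, i0, p, o1, o2) ∈ candsAt k := by
  simp only [candsAt, List.mem_flatMap, List.mem_map, List.mem_range]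
  exact ⟨i0, h0, p, hp', o1, h1, o2, h2, rfl⟩

end CfsgLib.Recog.USixty.Search
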