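import Cfsg.Agent.Lib.Recog.USixty.Setup
import Cfsg.Agent.Lib.Recog.USixty.Search

/-!
# The action on the twenty-eight Sylow subgroups is the model
-/

set_option autoImplicit false
set_option linter.unusedSectionVars false

namespace CfsgLib.Recog.USixty

open Subgroup CfsgLib.Recog.HeisThree

universe u

variable {G : Type u} [Group G] [Finite G] (C : Cfg G)

/-- The element with a given code. -/
def Cfg.dec (n : ℕ) : G :=
  C.f.el ![((n % 3 : ℕ) : ZMod 3), ((n / 3 : ℕ) : ZMod 3)] ((n / 9 : ℕ) : ZMod 3)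

/-- The Sylow subgroup with a given code. -/
def Cfg.pt (n : ℕ) : Sylow 3 G := if n = 27 then C.P else C.dec n • C.Q

theorem cast_mod3 (n : ℕ) : ((n % 3 : ℕ) : ZMod 3) = (n : ZMod 3) := ZMod.natCast_mod n 3

theorem Cfg.dec_mem (n : ℕ) : C.dec n ∈ (C.P : Subgroup G) := C.f.el_mem _ _

theorem Cfg.dec_mul {x y : ℕ} (hx : x < 27) (hy : y < 27) :
    C.dec (Search.mN x y) = C.dec x * C.dec y := by
  rw [Cfg.dec, Cfg.dec, Cfg.dec, C.f.el_mul]
  have e0 : (Search.mN x y) % 3 = (x % 3 + y % 3) % 3 := by unfold Search.mN; omega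
  have e1 : (Search.mN x y) / 3 = (x / 3 + y / 3) % 3 + 3 * ((x / 9 + y / 9 + 2 * (x / 3 % 3) * (y % 3)) % 3) := by
    unfold Search.mN; omega
  have e2 : (Search.mN x y) / 9 = (x / 9 + y / 9 + 2 * (x / 3 % 3) * (y % 3)) % 3 := by
    unfold Search.mN; omega
  have h3 : (3 : ZMod 3) = 0 := rfl
  congr 1
  · funext i
    fin_cases i
    · simp [e0, cast_mod3]
    · simp [e1, cast_mod3, h3]
  · rw [e2]
    simp only [Matrix.cons_val_one, Matrix.cons_val_zero, Matrix.cons_val_fin_one, cast_mod3, Nat.cast_add, Nat.cast_mul, Nat.cast_ofNat]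
    linear_combination ((x / 3 : ℕ) : ZMod 3) * (y : ZMod 3) * h3

theorem Cfg.dec_zero : C.dec 0 = 1 := by
  rw [Cfg.dec, ← C.f.el_zero]
  congr 1
  funext i; fin_cases i <;> simp

theorem Cfg.dec_one : C.dec 1 = C.f.a := by
  rw [← C.f.el_a, Cfg.dec]; simp

theorem Cfg.dec_three : C.dec 3 = C.f.b := by
  rw [← C.f.el_b, Cfg.dec]; simp

theorem Cfg.dec_four : C.dec 4 = C.f.a * C.f.b := by
  rw [show (4 : ℕ) = Search.mN 1 3 by decide, C.dec_mul (by norm_num) (by norm_num), C.dec_one,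
    C.dec_three]

theorem Cfg.dec_nine {k : ℕ} (hk : k < 3) : C.dec (9 * k) = C.f.w ^ k := by
  have : C.dec (9 * k) = C.f.el 0 (k : ZMod 3) := by
    rw [Cfg.dec]
    congr 1
    · funext i
      fin_cases i
      · simp [show 9 * k % 3 = 0 by omega]
      · simp [show 9 * k / 3 = 3 * k by omega, show (3 : ZMod 3) = 0 from rfl]
    · simp [show 9 * k / 9 = k by omega]
  rw [this, C.f.el_w, pw, ZMod.val_natCast, Nat.mod_eq_of_lt hk]

theorem Cfg.dec_pN {g : ℕ} (hg : g < 27) : ∀ n, C.dec (Search.pN g n) = C.dec g ^ n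
  | 0 => by rw [Search.pN, C.dec_zero, pow_zero]
  | n + 1 => by rw [Search.pN, C.dec_mul (Search.pN_lt n) hg, Cfg.dec_pN hg n, pow_succ]

theorem Cfg.dec_eq (n : ℕ) :
    C.dec n = C.f.a ^ (n % 3) * C.f.b ^ (n / 3 % 3) * C.f.w ^ (n / 9 % 3) := by
  simp [Cfg.dec, Frame.el, pw, ZMod.val_natCast]

theorem Cfg.conj_dec {x : ℕ} (hx : x < 27) : C.h * C.dec x * C.h⁻¹ = C.dec (Search.hN x) := by
  rw [Search.hN, if_neg (by omega), C.dec_mul (Search.mN_lt _ _) (by omega),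
    C.dec_mul (Search.pN_lt _) (Search.pN_lt _), C.dec_pN (by norm_num), C.dec_pN (by norm_num),
    C.dec_three, C.dec_four, C.dec_nine (Nat.mod_lt _ (by norm_num)), C.dec_eq x,
    show C.h * (C.f.a ^ (x % 3) * C.f.b ^ (x / 3 % 3) * C.f.w ^ (x / 9 % 3)) * C.h⁻¹ =
      (C.h * C.f.a ^ (x % 3) * C.h⁻¹) * (C.h * C.f.b ^ (x / 3 % 3) * C.h⁻¹) *
        (C.h * C.f.w ^ (x / 9 % 3) * C.h⁻¹) by group,
    ← conj_pow, ← conj_pow, ← conj_pow, C.conj_a, C.conj_b, C.conj_w]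
  congr 1
  have h3 : C.f.w ^ 3 = 1 := C.f.wcube
  have hinv : C.f.w⁻¹ = C.f.w ^ 2 := inv_eq_of_mul_eq_one_right (by rw [← pow_succ', h3])
  rw [hinv, ← pow_mul, Nat.mod_eq_of_lt (show x / 9 < 3 by omega), pow_eq_pow_mod (2 * (x / 9)) h3]

theorem Cfg.pt_zero : C.pt 0 = C.Q := by
  rw [Cfg.pt, if_neg (by norm_num), C.dec_zero, one_smul]

theorem Cfg.pt_inf : C.pt 27 = C.P := by rw [Cfg.pt, if_pos rfl]

theorem Cfg.h_smul {x : ℕ} (hx : x < 28) : C.h • C.pt x = C.pt (Search.hN x) := by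
  unfold Cfg.pt
  by_cases h27 : x = 27
  · rw [if_pos h27, if_pos (by rw [h27]; decide)]
    exact Sylow.smul_eq_iff_mem_normalizer.2 C.h_mem.1
  · have hlt : Search.hN x < 27 := by rw [Search.hN, if_neg h27]; exact Search.mN_lt _ _
    rw [if_neg h27, if_neg (by omega), ← C.conj_dec (show x < 27 by omega), ← mul_smul,
      show C.h * C.dec x * C.h⁻¹ = C.h * C.dec x * C.h⁻¹ from rfl]
    conv_rhs => rw [mul_smul, Sylow.smul_eq_iff_mem_normalizer.2 (inv_mem C.h_mem.2)]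

theorem Cfg.hp_smul {x : ℕ} (hx : x < 28) : ∀ n, C.h ^ n • C.pt x = C.pt (Search.hp x n)
  | 0 => by rw [pow_zero, one_smul, Search.hp]
  | n + 1 => by rw [pow_succ', mul_smul, Cfg.hp_smul hx n, Search.hp, C.h_smul (Search.hp_lt hx n)]

theorem Cfg.T_smul {u x : ℕ} (hu : u < 27) (hx : x < 28) : C.dec u • C.pt x = C.pt (Search.T u x) := by
  unfold Cfg.pt Search.T
  by_cases h27 : x = 27
  · rw [if_pos h27, if_pos h27, if_pos rfl]
    exact Sylow.smul_eq_iff_mem_normalizer.2 (Subgroup.le_normalizer (C.dec_mem u))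
  · have := Search.mN_lt u x
    rw [if_neg h27, if_neg h27, if_neg (by omega), C.dec_mul hu (by omega), mul_smul]

open scoped Classical in
noncomputable def Cfg.fn (w : G) (x : ℕ) : ℕ :=
  if h : ∃ y < 28, C.pt y = w • C.pt x then h.choose else 0

variable {α : G → ℤ} (hA : Alpha G α)
include C hA

theorem Cfg.exists_dec {r : G} (hr : r ∈ (C.P : Subgroup G)) : ∃ n < 27, r = C.dec n := by
  obtain ⟨u, k, rfl⟩ := C.f.exists_el hr
  refine ⟨(u 0).val + 3 * (u 1).val + 9 * k.val, ?_, ?_⟩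
  · have := (u 0).val_lt; have := (u 1).val_lt; have := k.val_lt; omega
  · have := (u 0).val_lt; have := (u 1).val_lt; have := k.val_lt
    rw [Cfg.dec]
    congr 1
    · funext i
      fin_cases i
      · simp [show ((u 0).val + 3 * (u 1).val + 9 * k.val) % 3 = (u 0).val by omega]
      · simp [show ((u 0).val + 3 * (u 1).val + 9 * k.val) / 3 = (u 1).val + 3 * k.val by omega,
          show (3 : ZMod 3) = 0 from rfl]
    · simp [show ((u 0).val + 3 * (u 1).val + 9 * k.val) / 9 = k.val by omega]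

theorem Cfg.pt_surj (R : Sylow 3 G) : ∃ n < 28, C.pt n = R := by
  by_cases hR : R = C.P
  · exact ⟨27, by norm_num, by rw [hR, C.pt_inf]⟩
  · obtain ⟨x, hx, e⟩ := regular hA C.hne hR
    obtain ⟨n, hn, rfl⟩ := C.exists_dec hA hx
    exact ⟨n, by omega, by rw [Cfg.pt, if_neg (by omega), e]⟩

theorem Cfg.pt_bij : Function.Bijective fun n : Fin 28 => C.pt n := by
  refine (Nat.bijective_iff_surjective_and_card _).2 ⟨fun R => ?_, by rw [card_sylow hA, Nat.card_fin]⟩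
  obtain ⟨n, hn, e⟩ := C.pt_surj hA R
  exact ⟨⟨n, hn⟩, e⟩

theorem Cfg.pt_inj {x y : ℕ} (hx : x < 28) (hy : y < 28) (e : C.pt x = C.pt y) : x = y :=
  congrArg Fin.val ((C.pt_bij hA).1 (a₁ := ⟨x, hx⟩) (a₂ := ⟨y, hy⟩) e)

theorem Cfg.hp_eight {x : ℕ} (hx : x < 28) (n : ℕ) : Search.hp x (n % 8) = Search.hp x n := by
  refine C.pt_inj hA (Search.hp_lt hx _) (Search.hp_lt hx _) ?_
  rw [← C.hp_smul hx, ← C.hp_smul hx, ← C.h_order, pow_mod_orderOf]

theorem Cfg.hp_add {x : ℕ} (hx : x < 28) (m n : ℕ) : Search.hp (Search.hp x m) n = Search.hp x (n + m) := by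
  refine C.pt_inj hA (Search.hp_lt (Search.hp_lt hx _) _) (Search.hp_lt hx _) ?_
  rw [← C.hp_smul (Search.hp_lt hx _), ← C.hp_smul hx, ← C.hp_smul hx, pow_add, mul_smul]

theorem Cfg.pair_cyclic {g : G} (hg : g ∈ normalizer ((C.P : Subgroup G) : Set G) ⊓
    normalizer ((C.Q : Subgroup G) : Set G)) : ∃ n < 8, C.h ^ n = g := by
  have hH : zpowers C.h = normalizer ((C.P : Subgroup G) : Set G) ⊓ normalizer ((C.Q : Subgroup G) : Set G) :=
    Subgroup.eq_of_le_of_card_ge (zpowers_le.2 C.h_mem)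
      (by rw [card_pair hA C.hne, Nat.card_zpowers, C.h_order])
  rw [← hH, ← mem_powers_iff_mem_zpowers, Submonoid.mem_powers_iff] at hg
  obtain ⟨n, rfl⟩ := hg
  exact ⟨n % 8, Nat.mod_lt _ (by norm_num), by rw [← C.h_order, pow_mod_orderOf]⟩

theorem Cfg.stab_inf {g : G} (hg : g • C.P = C.P) : ∃ b < 27, ∃ i < 8, g = C.dec b * C.h ^ i := by
  obtain ⟨x, hx, hxg⟩ := normalizer_decomp hA C.hne (Sylow.smul_eq_iff_mem_normalizer.1 hg)
  obtain ⟨b, hb, rfl⟩ := C.exists_dec hA hx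
  obtain ⟨i, hi, e⟩ := C.pair_cyclic hA hxg
  exact ⟨b, hb, i, hi, by rw [e, mul_inv_cancel_left]⟩

/-- An element exchanging the two base points. -/
theorem Cfg.exists_swap : ∃ w : G, w • C.P = C.Q ∧ w • C.Q = C.P := by
  have : Fact (Nat.Prime 3) := ⟨Nat.prime_three⟩
  obtain ⟨g, hg⟩ := MulAction.exists_smul_eq G C.P C.Q
  have hgQ : g • C.Q ≠ C.Q := fun e => C.hne (smul_left_cancel g (e.trans hg.symm))
  obtain ⟨y, hy, e⟩ := regular hA hgQ (P := C.Q) (R := C.P) (Ne.symm C.hne)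
  refine ⟨y * g, ?_, by rw [mul_smul, e]⟩
  rw [mul_smul, hg]
  exact Sylow.smul_eq_iff_mem_normalizer.2 (Subgroup.le_normalizer hy)

/-- The swap conjugates the element of order eight to an odd power. -/
theorem Cfg.swap_power {w : G} (hwP : w • C.P = C.Q) (hwQ : w • C.Q = C.P) :
    ∃ k ∈ ([1, 3, 5, 7] : List ℕ), w * C.h = C.h ^ k * w := by
  have hP := Sylow.smul_eq_iff_mem_normalizer.2 C.h_mem.1
  have hQ := Sylow.smul_eq_iff_mem_normalizer.2 C.h_mem.2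
  have h1 : (w * C.h * w⁻¹) • C.P = C.P := by
    rw [mul_smul, mul_smul, show w⁻¹ • C.P = C.Q by rw [inv_smul_eq_iff, hwQ], hQ, hwQ]
  have h2 : (w * C.h * w⁻¹) • C.Q = C.Q := by
    rw [mul_smul, mul_smul, show w⁻¹ • C.Q = C.P by rw [inv_smul_eq_iff, hwP], hP, hwP]
  obtain ⟨k, hk, e⟩ := C.pair_cyclic hA
    (Subgroup.mem_inf.2 ⟨Sylow.smul_eq_iff_mem_normalizer.1 h1, Sylow.smul_eq_iff_mem_normalizer.1 h2⟩)
  refine ⟨k, ?_, by rw [e]; group⟩
  have ho : orderOf (C.h ^ k) = 8 := by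
    rw [e, CfsgLib.Recog.LThreeOrder.orderOf_conj, C.h_order]
  rw [orderOf_pow, C.h_order] at ho
  interval_cases k <;> first | decide | norm_num at ho

theorem Cfg.fn_spec (w : G) (x : ℕ) : C.fn w x < 28 ∧ C.pt (C.fn w x) = w • C.pt x := by
  have h : ∃ y < 28, C.pt y = w • C.pt x := C.pt_surj hA _
  rw [Cfg.fn, dif_pos h]
  exact h.choose_spec

theorem Cfg.fn_swap {w : G} (hwP : w • C.P = C.Q) (hwQ : w • C.Q = C.P) :
    C.fn w 0 = 27 ∧ C.fn w 27 = 0 := by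
  constructor
  · exact C.pt_inj hA (C.fn_spec hA w 0).1 (by norm_num)
      (by rw [(C.fn_spec hA w 0).2, C.pt_zero, hwQ, C.pt_inf])
  · exact C.pt_inj hA (C.fn_spec hA w 27).1 (by norm_num)
      (by rw [(C.fn_spec hA w 27).2, C.pt_inf, hwP, C.pt_zero])

theorem Cfg.fn_inj (w : G) {x y : ℕ} (hx : x < 28) (hy : y < 28) (e : C.fn w x = C.fn w y) : x = y := by
  refine C.pt_inj hA hx hy (smul_left_cancel w ?_)
  rw [← (C.fn_spec hA w x).2, ← (C.fn_spec hA w y).2, e]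

theorem Cfg.fn_hp {w : G} {k : ℕ} (hk : w * C.h = C.h ^ k * w) {x : ℕ} (hx : x < 28) (i : ℕ) :
    C.fn w (Search.hp x i) = Search.hp (C.fn w x) (k * i % 8) := by
  have hi : ∀ i : ℕ, w * C.h ^ i = C.h ^ (k * i) * w := by
    intro i
    induction i with
    | zero => simp
    | succ i ih =>
      rw [pow_succ, ← mul_assoc, ih, mul_assoc, hk, ← mul_assoc, ← pow_add, Nat.mul_succ]
  rw [C.hp_eight hA (C.fn_spec hA w x).1]
  refine C.pt_inj hA (C.fn_spec hA w _).1 (Search.hp_lt (C.fn_spec hA w x).1 _) ?_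
  rw [(C.fn_spec hA w _).2, ← C.hp_smul hx, ← C.hp_smul (C.fn_spec hA w x).1, (C.fn_spec hA w x).2,
    ← mul_smul, ← mul_smul, hi]

end CfsgLib.Recog.USixty
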