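import Cfsg.Agent.Lib.Recog.USixty.Sylow
import Cfsg.Agent.Lib.Recog.HeisFrame

/-!
# The action on the twenty-eight Sylow 3-subgroups; the Sylow subgroup is not abelian
-/

set_option autoImplicit false
set_option linter.unusedSectionVars false

namespace CfsgLib.Recog.USixty

open Subgroup
open scoped Classical

universe u

local notation "Cen[" x "]" => Subgroup.centralizer ({x} : Set _)

variable {G : Type u} [Group G] [Finite G] {α : G → ℤ} (hA : Alpha G α)
include hA

theorem fix_eq_one {P Q : Sylow 3 G} (hne : P ≠ Q) {x : G} (hx : x ∈ (P : Subgroup G))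
    (hfix : x • Q = Q) : x = 1 := by
  have : Fact (Nat.Prime 3) := ⟨Nat.prime_three⟩
  have hxN : x ∈ normalizer ((Q : Subgroup G) : Set G) := Sylow.smul_eq_iff_mem_normalizer.1 hfix
  have h3 : zpowers x ⊓ normalizer ((Q : Subgroup G) : Set G) = zpowers x :=
    inf_eq_left.2 (zpowers_le.2 hxN)
  have h2 := h3.symm.trans (IsPGroup.inf_normalizer_sylow ((P.isPGroup').to_le (zpowers_le.2 hx)) Q)
  have : x ∈ (P : Subgroup G) ⊓ (Q : Subgroup G) := ⟨hx, (h2.le (mem_zpowers x)).2⟩
  rw [inf_eq_bot hA hne, Subgroup.mem_bot] at this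
  exact this

/-- A Sylow subgroup permutes the other twenty-seven regularly. -/
theorem regular {P Q R : Sylow 3 G} (hQ : Q ≠ P) (hR : R ≠ P) :
    ∃ x ∈ (P : Subgroup G), x • Q = R := by
  have hP := sylow_card hA P
  have := Fintype.ofFinite (Sylow 3 G)
  have hc : Nat.card {S : Sylow 3 G // S ≠ P} = 27 := by
    have h28 := card_sylow hA
    rw [Nat.card_eq_fintype_card] at h28
    rw [Nat.card_eq_fintype_card, Fintype.card_subtype_compl, Fintype.card_subtype_eq]
    omega
  let φ : ↥(P : Subgroup G) → {S : Sylow 3 G // S ≠ P} := fun x => ⟨(x : G) • Q, fun e =>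
    hQ (smul_left_cancel (x : G)
      (e.trans (Sylow.smul_eq_iff_mem_normalizer.2 (Subgroup.le_normalizer x.2)).symm))⟩
  have hi : Function.Injective φ := fun x y e => by
    have e' : (x : G) • Q = (y : G) • Q := congrArg Subtype.val e
    have h1 : ((y : G)⁻¹ * x) • Q = Q := by rw [mul_smul, e', inv_smul_smul]
    exact (Subtype.ext (inv_mul_eq_one.1
      (fix_eq_one hA (Ne.symm hQ) (mul_mem (inv_mem y.2) x.2) h1))).symm
  have hb := (Nat.bijective_iff_injective_and_card φ).2 ⟨hi, by rw [hP, hc]; norm_num⟩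
  obtain ⟨x, hx⟩ := hb.2 ⟨R, hR⟩
  exact ⟨x, x.2, congrArg Subtype.val hx⟩

theorem exists_ne (P : Sylow 3 G) : ∃ Q : Sylow 3 G, Q ≠ P := by
  by_contra hno
  push Not at hno
  have : Subsingleton (Sylow 3 G) := ⟨fun a b => (hno a).trans (hno b).symm⟩
  have := card_sylow hA
  rw [Nat.card_unique] at this
  norm_num at this

theorem card_normalizer (P : Sylow 3 G) :
    Nat.card (normalizer ((P : Subgroup G) : Set G)) = 216 := by
  have : Fact (Nat.Prime 3) := ⟨Nat.prime_three⟩
  have h1 := P.card_eq_index_normalizer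
  rw [card_sylow hA] at h1
  have h2 : _ * (normalizer ((P : Subgroup G) : Set G)).index = _ :=
    (normalizer ((P : Subgroup G) : Set G)).card_mul_index
  rw [show (normalizer ((P : Subgroup G) : Set G)).index = 28 from h1.symm, hA.card] at h2
  omega

/-- Every element of the normaliser is a product. -/
theorem normalizer_decomp {P Q : Sylow 3 G} (hQ : Q ≠ P) {g : G}
    (hg : g ∈ normalizer ((P : Subgroup G) : Set G)) :
    ∃ x ∈ (P : Subgroup G),
      x⁻¹ * g ∈ normalizer ((P : Subgroup G) : Set G) ⊓ normalizer ((Q : Subgroup G) : Set G) := by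
  obtain ⟨x, hx, e⟩ := regular hA hQ (R := g • Q) fun e =>
    hQ (smul_left_cancel g (e.trans (Sylow.smul_eq_iff_mem_normalizer.2 hg).symm))
  refine ⟨x, hx, Subgroup.mem_inf.2 ⟨mul_mem (inv_mem (Subgroup.le_normalizer hx)) hg, ?_⟩⟩
  exact Sylow.smul_eq_iff_mem_normalizer.1 (by rw [mul_smul, ← e, inv_smul_smul])

/-- The stabiliser of two Sylow subgroups has order eight. -/
theorem card_pair {P Q : Sylow 3 G} (hQ : Q ≠ P) :
    Nat.card ↥(normalizer ((P : Subgroup G) : Set G) ⊓ normalizer ((Q : Subgroup G) : Set G)) = 8 := by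
  set H := normalizer ((P : Subgroup G) : Set G) ⊓ normalizer ((Q : Subgroup G) : Set G)
  let φ : ↥(P : Subgroup G) × H → normalizer ((P : Subgroup G) : Set G) := fun p =>
    ⟨p.1 * p.2, mul_mem (Subgroup.le_normalizer p.1.2) p.2.2.1⟩
  have hi : Function.Injective φ := fun p q e => by
    have e' : (p.1 : G) * p.2 = q.1 * q.2 := congrArg Subtype.val e
    have h1 : (q.1 : G)⁻¹ * p.1 = q.2 * (p.2 : G)⁻¹ := by
      rw [inv_mul_eq_iff_eq_mul, ← mul_assoc, ← e']; group
    have h2 : ((q.1 : G)⁻¹ * p.1) • Q = Q := by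
      rw [h1]
      exact Sylow.smul_eq_iff_mem_normalizer.2 (mul_mem q.2.2.2 (inv_mem p.2.2.2))
    have h3 := (inv_mul_eq_one.1 (fix_eq_one hA (Ne.symm hQ) (mul_mem (inv_mem q.1.2) p.1.2) h2)).symm
    refine Prod.ext (Subtype.ext h3) (Subtype.ext ?_)
    rw [h3] at e'
    exact mul_left_cancel e'
  have hs : Function.Surjective φ := fun g => by
    obtain ⟨x, hx, h⟩ := normalizer_decomp hA hQ g.2
    exact ⟨(⟨x, hx⟩, ⟨_, h⟩), Subtype.ext (mul_inv_cancel_left x (g : G))⟩
  have := Nat.card_congr (Equiv.ofBijective φ ⟨hi, hs⟩)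
  rw [Nat.card_prod, sylow_card hA P, card_normalizer hA P] at this
  omega

theorem eq_one_of_comm_zero {P Q : Sylow 3 G} (hQ : Q ≠ P) {h y : G}
    (hh : h ∈ normalizer ((P : Subgroup G) : Set G) ⊓ normalizer ((Q : Subgroup G) : Set G))
    (hy : orderOf y = 3) (hy0 : α y = 0) (hc : h * y = y * h) : h = 1 := by
  have h8 : orderOf h ∣ 8 := card_pair hA hQ ▸ Subgroup.orderOf_dvd_natCard _ hh
  have h27 : orderOf h ∣ 27 :=
    (Subgroup.orderOf_dvd_natCard _ (mem_centralizer_singleton_iff.2 hc)).trans (hA.cen_zero y hy hy0)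
  exact orderOf_eq_one_iff.1 (Nat.dvd_one.1 (by simpa using Nat.dvd_gcd h8 h27))

/-- The Sylow 3-subgroups are not abelian. -/
theorem exists_noncomm (P : Sylow 3 G) :
    ∃ a ∈ (P : Subgroup G), ∃ b ∈ (P : Subgroup G), a * b ≠ b * a := by
  by_contra hno
  push Not at hno
  have : Fact (Nat.Prime 3) := ⟨Nat.prime_three⟩
  obtain ⟨Q, hQ⟩ := exists_ne hA P
  have hP : Nat.card (P : Subgroup G) = 3 ^ 3 := sylow_card hA P
  have hcnt := hA.count P (by rw [hP]; norm_num)
  let Z := {y : (P : Subgroup G) // orderOf (y : G) = 3 ∧ α y = 0}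
  let H := normalizer ((P : Subgroup G) : Set G) ⊓ normalizer ((Q : Subgroup G) : Set G)
  have hmem : ∀ (h : H) (y : G), y ∈ (P : Subgroup G) → (h : G) * y * (h : G)⁻¹ ∈ (P : Subgroup G) :=
    fun h y hy => (Subgroup.mem_normalizer_iff.1 h.2.1 y).1 hy
  let act : MulAction H Z :=
    { smul := fun h y => ⟨⟨(h : G) * y.1 * (h : G)⁻¹, hmem h _ y.1.2⟩,
        (CfsgLib.Recog.LThreeOrder.orderOf_conj _ _).trans y.2.1, (hA.conj_eq _ _).trans y.2.2⟩
      one_smul := fun y => Subtype.ext (Subtype.ext (show (1 : G) * y.1 * 1⁻¹ = y.1 by group))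
      mul_smul := fun g h y => Subtype.ext (Subtype.ext
        (show ((g : G) * h) * y.1 * ((g : G) * h)⁻¹ = g * (h * y.1 * (h : G)⁻¹) * (g : G)⁻¹ by group)) }
  have h8 : 8 ∣ Nat.card Z := by
    refine CfsgLib.Recog.LThreeOrder.dvd_card_of_orbits (X := H) fun y => ?_
    have hbot : MulAction.stabilizer H y = ⊥ := by
      rw [eq_bot_iff]
      intro h hh
      have e : (h : G) * y.1 * (h : G)⁻¹ = y.1 := congrArg (fun w : Z => (w.1 : G)) hh
      exact Subgroup.mem_bot.2 (Subtype.ext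
        (eq_one_of_comm_zero hA hQ h.2 y.2.1 y.2.2 (mul_inv_eq_iff_eq_mul.1 e)))
    rw [hbot, Subgroup.index_bot, card_pair hA hQ]
  -- some zero
  obtain ⟨a, ha, ha3, ha0⟩ : ∃ a ∈ (P : Subgroup G), orderOf a = 3 ∧ α a = 0 := by
    obtain ⟨R, hR⟩ := Sylow.exists_subgroup_card_pow_prime 3
      (show 3 ^ 2 ∣ Nat.card (P : Subgroup G) by rw [hP]; norm_num)
    obtain ⟨y, hy, hy3, hy0⟩ := exists_zero hA (R := R.map (P : Subgroup G).subtype)
      (by rw [Subgroup.card_map_of_injective (P : Subgroup G).subtype_injective, hR]; norm_num)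
    obtain ⟨y', -, rfl⟩ := hy
    exact ⟨_, y'.2, hy3, hy0⟩
  -- the counts
  have hpart : Nat.card Z + Nat.card {y : (P : Subgroup G) // orderOf (y : G) = 3 ∧ α y ≠ 0} + 1 = 27 := by
    have := Fintype.ofFinite (P : Subgroup G)
    have e27 : Fintype.card (P : Subgroup G) = 27 := by rw [← Nat.card_eq_fintype_card, hP]; norm_num
    rw [← e27, Nat.card_eq_fintype_card, Nat.card_eq_fintype_card, Fintype.card_subtype,
      Fintype.card_subtype, ← Finset.card_univ]
    rw [← Finset.card_filter_add_card_filter_not (s := (Finset.univ : Finset (P : Subgroup G)))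
      (fun y => y = 1), Finset.filter_eq', if_pos (Finset.mem_univ _), Finset.card_singleton,
      ← Finset.card_filter_add_card_filter_not (s := Finset.univ.filter fun y : (P : Subgroup G) => ¬ y = 1)
      (fun y => α y = 0), Finset.filter_filter, Finset.filter_filter, add_comm 1]
    congr 2 <;> refine congrArg Finset.card (Finset.filter_congr fun y _ => ?_)
    all_goals
      refine ⟨fun h => ⟨fun e => ?_, h.2⟩, fun h => ⟨orderOf_mem hA hP y.2 fun e => h.1 (Subtype.ext e), h.2⟩⟩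
      rw [e, Subgroup.coe_one, orderOf_one] at h
      norm_num at h
  have hZ : 0 < Nat.card Z := Nat.card_pos_iff.2 ⟨⟨⟨⟨a, ha⟩, ha3, ha0⟩⟩, inferInstance⟩
  have hN : Nat.card {y : (P : Subgroup G) // orderOf (y : G) = 3 ∧ α y ≠ 0} = 2 := by omega
  obtain ⟨u, v, huv, huniv⟩ := Nat.card_eq_two_iff.1 hN
  -- a plane avoiding them
  have hbad : ∀ y ∈ (P : Subgroup G), orderOf y = 3 → α y ≠ 0 → y = u.1.1 ∨ y = v.1.1 := by
    intro y hy h3 h0
    have := huniv.ge (Set.mem_univ (⟨⟨y, hy⟩, h3, h0⟩ : {y : (P : Subgroup G) // orderOf (y : G) = 3 ∧ α y ≠ 0}))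
    rcases this with e | e
    · exact Or.inl (congrArg (fun w => (w.1 : G)) e)
    · exact Or.inr (congrArg (fun w => (w.1 : G)) (Set.mem_singleton_iff.1 e))
  obtain ⟨b, hb, hb'⟩ : ∃ b ∈ (P : Subgroup G), b ∉ [1, a, a⁻¹, u.1.1, v.1.1, a⁻¹ * u.1.1, a⁻¹ * v.1.1,
      (a⁻¹ * u.1.1)⁻¹, (a⁻¹ * v.1.1)⁻¹] := by
    by_contra hall
    push Not at hall
    obtain ⟨L, hL, hlen⟩ : ∃ L : List G, (∀ x ∈ (P : Subgroup G), x ∈ L) ∧ L.length = 9 :=
      ⟨_, hall, rfl⟩
    have hle := Nat.card_le_card_of_injective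
      (fun x : (P : Subgroup G) => (⟨x.1, List.mem_toFinset.2 (hL x.1 x.2)⟩ : ↥L.toFinset))
      fun x y e => Subtype.ext (congrArg Subtype.val e :)
    rw [hP, Nat.card_eq_finsetCard] at hle
    have := hle.trans L.toFinset_card_le
    rw [hlen] at this
    norm_num at this
  simp only [List.mem_cons, List.not_mem_nil, or_false, not_or] at hb'
  obtain ⟨hb1, hba, hba', hbu, hbv, hbau, hbav, hbaau, hbaav⟩ := hb'
  have hb3 := orderOf_mem hA hP hb hb1
  have hab3 : orderOf (a * b) = 3 := orderOf_mem hA hP (mul_mem ha hb) fun e => hba' (eq_inv_of_mul_eq_one_right e)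
  have hbb : b * b = b⁻¹ := CfsgLib.Recog.LThreeOrder.cube_eq hb3
  have habb3 : orderOf (a * b * b) = 3 := orderOf_mem hA hP (mul_mem (mul_mem ha hb) hb) fun e => hba (by
    rw [mul_assoc, hbb, mul_inv_eq_one] at e; exact e.symm)
  have hnz : b ∉ zpowers a := fun h => by
    rcases CfsgLib.Recog.LThreeOrder.zpowers_three ha3 h with e | e | e <;> contradiction
  have z1 : α b = 0 := by
    by_contra h0
    rcases hbad b hb hb3 h0 with e | e <;> contradiction
  have z2 : α (a * b) = 0 := by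
    by_contra h0
    rcases hbad _ (mul_mem ha hb) hab3 h0 with e | e
    · exact hbau (by rw [← e]; group)
    · exact hbav (by rw [← e]; group)
  have z3 : α (a * b * b) = 0 := by
    by_contra h0
    rcases hbad _ (mul_mem (mul_mem ha hb) hb) habb3 h0 with e | e
    · exact hbaau (by rw [← e, mul_assoc, hbb]; group)
    · exact hbaav (by rw [← e, mul_assoc, hbb]; group)
  exact (pattern_zero _ (mem_range' hA ha3) _ (mem_range' hA hb3) _ (mem_range' hA hab3) _
    (mem_range' hA habb3) (hA.plane a b ha3 hb3 (hno a ha b hb) hnz)).2.2 ⟨ha0, z1, z2, z3⟩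

end CfsgLib.Recog.USixty
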