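import Cfsg.Agent.Lib.Recog.USixty.Regular

/-!
# The normaliser of a Sylow 3-subgroup: a frame cycled by an element of order eight
-/

set_option autoImplicit false
set_option linter.unusedSectionVars false

namespace CfsgLib.Recog.USixty

open Subgroup CfsgLib.Recog.HeisThree

universe u

local notation "Cen[" x "]" => Subgroup.centralizer ({x} : Set _)

/-- The linear map given by the images of the basis. -/
def lin (U V x : ZMod 3 × ZMod 3) : ZMod 3 × ZMod 3 :=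
  (x.1 * U.1 + x.2 * V.1, x.1 * U.2 + x.2 * V.2)

theorem zmod_three : ∀ k : ZMod 3, k = 0 ∨ k = 1 ∨ k = -1 := by decide

theorem lin_choice : ∀ U V : ZMod 3 × ZMod 3, U.2 * V.1 - V.2 * U.1 = 1 →
    (∀ x : ZMod 3 × ZMod 3, x ≠ 0 → lin U V x ≠ x) →
      U.2 ≠ 0 ∧ ((lin U V)^[5] (1, 0)).2 ≠ 0 ∧ (lin U V)^[4] (1, 0) ≠ (1, 0) ∧
        (lin U V)^[20] (1, 0) ≠ (1, 0) ∧
        ((lin U V)^[2] (1, 0) = (1, 0) + lin U V (1, 0) ∨
          (lin U V)^[10] (1, 0) = (1, 0) + (lin U V)^[5] (1, 0)) := by decide +kernel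

variable {G : Type u} [Group G] [Finite G]

/-- A Sylow subgroup, an opposite one, and the element of order eight fixing both. -/
structure Cfg (G : Type u) [Group G] where
  P : Sylow 3 G
  Q : Sylow 3 G
  hne : Q ≠ P
  f : Frame (P : Subgroup G)
  h : G
  h_mem : h ∈ normalizer ((P : Subgroup G) : Set G) ⊓ normalizer ((Q : Subgroup G) : Set G)
  h_order : orderOf h = 8
  conj_a : h * f.a * h⁻¹ = f.b
  conj_b : h * f.b * h⁻¹ = f.a * f.b
  conj_w : h * f.w * h⁻¹ = f.w⁻¹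

variable {α : G → ℤ} (hA : Alpha G α)
include hA

theorem exists_frame' (P : Sylow 3 G) {a b : G} (ha : a ∈ (P : Subgroup G)) (hb : b ∈ (P : Subgroup G))
    (hab : a * b ≠ b * a) : ∃ f : Frame (P : Subgroup G), f.a = a ∧ f.b = b := by
  have hP : Nat.card (P : Subgroup G) = 3 ^ 3 := sylow_card hA P
  have hw : a⁻¹ * b⁻¹ * a * b ∈ (P : Subgroup G) :=
    mul_mem (mul_mem (mul_mem (inv_mem ha) (inv_mem hb)) ha) hb
  have hc := CfsgLib.Recog.LThreeOrder.commutator_central (X := (P : Subgroup G))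
    (by rw [hP]; norm_num) ⟨a⁻¹, inv_mem ha⟩ ⟨b⁻¹, inv_mem hb⟩
  refine ⟨⟨a, b, a⁻¹ * b⁻¹ * a * b, ha, hb, hw, by rw [hP]; norm_num, fun r hr => ?_, by group,
    fun r hr => ?_, fun e => hab ?_⟩, rfl, rfl⟩
  · rcases cube_of_mem hA hP hr with rfl | h3
    · exact one_pow 3
    · rw [← h3]; exact pow_orderOf_eq_one r
  · have := congrArg Subtype.val (Subgroup.mem_center_iff.1 hc ⟨r, hr⟩)
    simp only [Subgroup.coe_mul, Subgroup.coe_inv, inv_inv] at this
    exact this.symm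
  · calc a * b = b * a * (a⁻¹ * b⁻¹ * a * b) := by group
      _ = b * a := by rw [e, mul_one]

theorem exists_cfg : Nonempty (Cfg G) := by
  have : Fact (Nat.Prime 3) := ⟨Nat.prime_three⟩
  obtain ⟨P⟩ := (inferInstance : Nonempty (Sylow 3 G))
  obtain ⟨Q, hQ⟩ := exists_ne hA P
  have hP : Nat.card (P : Subgroup G) = 3 ^ 3 := sylow_card hA P
  obtain ⟨a₀, ha₀, b₀, hb₀, hab₀⟩ := exists_noncomm hA P
  obtain ⟨f, -, -⟩ := exists_frame' hA P ha₀ hb₀ hab₀
  -- the value of the character at the central element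
  have hw3 : orderOf f.w = 3 := orderOf_mem hA hP f.hw f.hne
  have hwm : α f.w = -1 := central_value hA ha₀ hb₀ hab₀ f.hw f.hne fun p hp => (f.hcen p hp).eq.symm
  -- an element inverting it
  obtain ⟨s, hs, hsw⟩ : ∃ s ∈ normalizer ((P : Subgroup G) : Set G) ⊓ normalizer ((Q : Subgroup G) : Set G),
      s * f.w ≠ f.w * s := by
    by_contra hno
    push Not at hno
    have hle : normalizer ((P : Subgroup G) : Set G) ≤ Cen[f.w] := fun g hg => by
      obtain ⟨x, hx, hxg⟩ := normalizer_decomp hA hQ hg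
      refine mem_centralizer_singleton_iff.2 ?_
      have e1 : Commute f.w x := f.hcen x hx
      have e2 : Commute f.w (x⁻¹ * g) := (hno _ hxg).symm
      have := e1.mul_right e2
      rw [mul_inv_cancel_left] at this
      exact this.eq.symm
    have := (Subgroup.card_dvd_of_le hle).trans (hA.cen_dvd f.w hw3)
    rw [card_normalizer hA P] at this
    norm_num at this
  have hsP : ∀ r : G, r ∈ (P : Subgroup G) → s * r * s⁻¹ ∈ (P : Subgroup G) := fun r hr =>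
    (Subgroup.mem_normalizer_iff.1 hs.1 r).1 hr
  -- a central element is a power of `w`
  have hcent : ∀ r ∈ (P : Subgroup G), (∀ p ∈ (P : Subgroup G), p * r = r * p) → f.pr r = 0 := by
    intro r hr hc
    obtain ⟨u, k, rfl⟩ := f.exists_el hr
    rw [f.pr_el]
    have h1 := hc _ (f.el_mem ![1, 0] 0)
    have h2 := hc _ (f.el_mem ![0, 1] 0)
    rw [f.el_mul, f.el_mul] at h1 h2
    have e1 := (f.el_inj h1).2
    have e2 := (f.el_inj h2).2
    simp at e1 e2
    funext i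
    fin_cases i
    · show u 0 = 0
      first | linear_combination e2 | linear_combination -e2
    · show u 1 = 0
      first | linear_combination e1 | linear_combination -e1
  -- `s` inverts `w`
  have hswc : ∀ p ∈ (P : Subgroup G), p * (s * f.w * s⁻¹) = s * f.w * s⁻¹ * p := by
    intro p hp
    have hp' : s⁻¹ * p * s ∈ (P : Subgroup G) := by
      refine (Subgroup.mem_normalizer_iff.1 hs.1 _).2 ?_
      simpa [mul_assoc] using hp
    have := (f.hcen _ hp').eq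
    calc p * (s * f.w * s⁻¹) = s * ((s⁻¹ * p * s) * f.w) * s⁻¹ := by group
      _ = s * (f.w * (s⁻¹ * p * s)) * s⁻¹ := by rw [this]
      _ = _ := by group
  have hwinv : s * f.w * s⁻¹ = f.w⁻¹ := by
    obtain ⟨u, k, e⟩ := f.exists_el (hsP _ f.hw)
    have hu := hcent _ (hsP _ f.hw) hswc
    rw [e, f.pr_el] at hu
    rw [hu, f.el_w] at e
    rcases zmod_three k with rfl | rfl | rfl
    · rw [pw_zero, mul_inv_eq_one] at e
      exact absurd (mul_eq_left.1 e) f.hne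
    · rw [pw_one, mul_inv_eq_iff_eq_mul] at e
      exact absurd e hsw
    · rw [e, pw_neg f.wcube, pw_one]
  have hsk : ∀ k : ZMod 3, s * pw f.w k * s⁻¹ = pw f.w (-k) := fun k => by
    rw [conj_pw, hwinv, pw_neg f.wcube]
    simp [pw]
  -- no fixed coset
  have hfix : ∀ r ∈ (P : Subgroup G), f.pr r ≠ 0 → f.pr (s * r * s⁻¹) ≠ f.pr r := by
    intro r hr hr0 e
    obtain ⟨u, k, rfl⟩ := f.exists_el hr
    obtain ⟨v, l, hv⟩ := f.exists_el (hsP _ hr)
    rw [hv, f.pr_el, f.pr_el] at e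
    subst v
    rw [f.pr_el] at hr0
    obtain ⟨t, ht⟩ : ∃ t, t = l - k := ⟨_, rfl⟩
    obtain ⟨r', hr'⟩ : ∃ r', r' = f.el u k * pw f.w (2 * t) := ⟨_, rfl⟩
    have e1 : r' = f.el u (k + 2 * t) := by
      rw [hr', ← f.el_w, f.el_mul]; simp
    have e2 : s * r' * s⁻¹ = r' := by
      rw [hr', show s * (f.el u k * pw f.w (2 * t)) * s⁻¹ =
        (s * f.el u k * s⁻¹) * (s * pw f.w (2 * t) * s⁻¹) by group, hv, hsk, ← f.el_w, f.el_mul,
        ← f.el_w, f.el_mul]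
      simp only [add_zero, Pi.zero_apply, mul_zero, sub_zero]
      congr 1
      have h3 : (3 : ZMod 3) = 0 := rfl
      linear_combination -ht - t * h3
    have hm : r' ∈ (P : Subgroup G) := e1 ▸ f.el_mem _ _
    obtain ⟨g, hg, hgr⟩ : ∃ g ∈ (P : Subgroup G), g * r' ≠ r' * g := by
      by_contra hno
      push Not at hno
      exact hr0 (by simpa [e1, f.pr_el] using hcent r' hm hno)
    have h1 : r' ≠ 1 := fun e => hgr (by rw [e, mul_one, one_mul])
    have := eq_one_of_comm_zero hA hQ hs (orderOf_mem hA hP hm h1) (alpha_values hA hm hg hgr).1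
      (mul_inv_eq_iff_eq_mul.1 e2)
    exact hsw (by rw [this, one_mul, mul_one])
  -- the linear map
  obtain ⟨U, kU, hU⟩ := f.exists_el (hsP _ f.ha)
  obtain ⟨V, kV, hV⟩ := f.exists_el (hsP _ f.hb)
  have hlin : ∀ r ∈ (P : Subgroup G), f.pr (s * r * s⁻¹) =
      ![(lin (U 0, U 1) (V 0, V 1) (f.pr r 0, f.pr r 1)).1,
        (lin (U 0, U 1) (V 0, V 1) (f.pr r 0, f.pr r 1)).2] := by
    intro r hr
    obtain ⟨u, k, rfl⟩ := f.exists_el hr
    rw [show s * f.el u k * s⁻¹ = (s * pw f.a (u 0) * s⁻¹) * (s * pw f.b (u 1) * s⁻¹) *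
      (s * pw f.w k * s⁻¹) by simp only [Frame.el]; group, conj_pw, conj_pw, hsk, hU, hV,
      f.pr_mul (mul_mem (pw_mem (f.el_mem _ _) _) (pw_mem (f.el_mem _ _) _)) (pw_mem f.hw _),
      f.pr_mul (pw_mem (f.el_mem _ _) _) (pw_mem (f.el_mem _ _) _), f.pr_pw (f.el_mem _ _),
      f.pr_pw (f.el_mem _ _), f.pr_el, f.pr_el, f.pr_el, ← f.el_w, f.pr_el]
    funext i
    fin_cases i <;> simp [lin]
  have hdet : U 1 * V 0 - V 1 * U 0 = 1 := by
    have e : (s * f.b * s⁻¹) * (s * f.a * s⁻¹) = (s * f.a * s⁻¹) * (s * f.b * s⁻¹) * (s * f.w * s⁻¹)⁻¹ := by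
      calc _ = s * (f.b * f.a) * s⁻¹ := by group
        _ = s * (f.a * f.b * f.w⁻¹) * s⁻¹ := by rw [f.hrel]
        _ = _ := by group
    rw [hU, hV, hwinv, inv_inv, f.el_mul, f.el_mul, ← pw_one f.w, ← f.el_w, f.el_mul] at e
    have h := (f.el_inj e).2
    simp only [Pi.zero_apply, mul_zero, sub_zero] at h
    linear_combination h
  have hff : ∀ x : ZMod 3 × ZMod 3, x ≠ 0 → lin (U 0, U 1) (V 0, V 1) x ≠ x := by
    intro x hx e
    refine hfix _ (f.el_mem ![x.1, x.2] 0) ?_ ?_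
    · rw [f.pr_el]
      intro h0
      exact hx (Prod.ext (congrFun h0 0) (congrFun h0 1))
    · rw [hlin _ (f.el_mem _ _), f.pr_el]
      simp [e]
  obtain ⟨hU1, hU5, hp4, hp20, hchoice⟩ := lin_choice _ _ hdet hff
  have hiter : ∀ n : ℕ, s ^ n * f.a * (s ^ n)⁻¹ ∈ (P : Subgroup G) ∧
      f.pr (s ^ n * f.a * (s ^ n)⁻¹) =
        ![((lin (U 0, U 1) (V 0, V 1))^[n] (1, 0)).1, ((lin (U 0, U 1) (V 0, V 1))^[n] (1, 0)).2] := by
    intro n
    induction n with
    | zero =>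
      refine ⟨by simpa using f.ha, ?_⟩
      rw [pow_zero, one_mul, inv_one, mul_one, ← f.el_a, f.pr_el]
      simp
    | succ n ih =>
      rw [pow_succ', show s * s ^ n * f.a * (s * s ^ n)⁻¹ = s * (s ^ n * f.a * (s ^ n)⁻¹) * s⁻¹ by group]
      refine ⟨hsP _ ih.1, ?_⟩
      rw [hlin _ ih.1, ih.2, Function.iterate_succ_apply']
      simp
  -- the good generator of the cyclic group
  obtain ⟨t, ht, htw, hnc, h4, hsum⟩ : ∃ t ∈ normalizer ((P : Subgroup G) : Set G) ⊓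
      normalizer ((Q : Subgroup G) : Set G), t * f.w * t⁻¹ = f.w⁻¹ ∧
      f.pr (t * f.a * t⁻¹) 1 ≠ 0 ∧ t ^ 4 ≠ 1 ∧
      f.pr (t ^ 2 * f.a * (t ^ 2)⁻¹) = f.pr f.a + f.pr (t * f.a * t⁻¹) := by
    have ha' : f.pr f.a = ![1, 0] := by rw [← f.el_a, f.pr_el]
    have hne : ∀ n : ℕ, (lin (U 0, U 1) (V 0, V 1))^[n] (1, 0) ≠ (1, 0) → s ^ n ≠ 1 := by
      intro n hn e
      have h1 := (hiter n).2
      rw [e, one_mul, inv_one, mul_one, ha'] at h1
      exact hn (Prod.ext (congrFun h1 0).symm (congrFun h1 1).symm)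
    rcases hchoice with e | e
    · refine ⟨s, hs, hwinv, ?_, hne 4 hp4, ?_⟩
      · have := (hiter 1).2
        rw [pow_one] at this
        rw [this]
        simpa [lin] using hU1
      · have := (hiter 1).2
        rw [pow_one] at this
        rw [(hiter 2).2, this, e, ha', Function.iterate_one]
        simp
    · refine ⟨s ^ 5, pow_mem hs 5, ?_, ?_, fun h => hne 20 hp20 (by rw [← h, ← pow_mul]), ?_⟩
      · have h2 : s ^ 2 * f.w * (s ^ 2)⁻¹ = f.w := by
          rw [show s ^ 2 * f.w * (s ^ 2)⁻¹ = s * (s * f.w * s⁻¹) * s⁻¹ by rw [pow_two]; group, hwinv,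
            show s * f.w⁻¹ * s⁻¹ = (s * f.w * s⁻¹)⁻¹ by group, hwinv, inv_inv]
        rw [show s ^ 5 * f.w * (s ^ 5)⁻¹ = s * (s ^ 2 * (s ^ 2 * f.w * (s ^ 2)⁻¹) * (s ^ 2)⁻¹) * s⁻¹ by group,
          h2, h2, hwinv]
      · rw [(hiter 5).2]
        simpa using hU5
      · rw [← pow_mul, (hiter 10).2, (hiter 5).2, e, ha']
        simp
  -- adjust the first generator
  have htP : ∀ r : G, r ∈ (P : Subgroup G) → t * r * t⁻¹ ∈ (P : Subgroup G) := fun r hr =>
    (Subgroup.mem_normalizer_iff.1 ht.1 r).1 hr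
  obtain ⟨v, l, hv⟩ := f.exists_el (htP _ f.ha)
  obtain ⟨v', l', hv'⟩ := f.exists_el (htP _ (htP _ f.ha))
  have hsum' : v' = ![1, 0] + v := by
    rw [show t ^ 2 * f.a * (t ^ 2)⁻¹ = t * (t * f.a * t⁻¹) * t⁻¹ by rw [pow_two]; group, hv', f.pr_el, hv, f.pr_el,
      ← f.el_a, f.pr_el] at hsum
    exact hsum
  rw [hv, f.pr_el] at hnc
  obtain ⟨m, hm⟩ : ∃ m : ZMod 3, m = l - l' := ⟨_, rfl⟩
  have htk : t * pw f.w m * t⁻¹ = pw f.w (-m) := by
    rw [conj_pw, htw, pw_neg f.wcube]; simp [pw]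
  have htk' : t * pw f.w (-m) * t⁻¹ = pw f.w m := by
    rw [pw_neg f.wcube, show t * (pw f.w m)⁻¹ * t⁻¹ = (t * pw f.w m * t⁻¹)⁻¹ by group, htk,
      pw_neg f.wcube, inv_inv]
  obtain ⟨a', ha'⟩ : ∃ a', a' = f.el ![1, 0] m := ⟨_, rfl⟩
  obtain ⟨b', hb'⟩ : ∃ b', b' = f.el v (l - m) := ⟨_, rfl⟩
  have hta : t * a' * t⁻¹ = b' := by
    rw [ha', show f.el ![1, 0] m = f.a * pw f.w m by rw [← f.el_a, ← f.el_w, f.el_mul]; simp,
      show t * (f.a * pw f.w m) * t⁻¹ = (t * f.a * t⁻¹) * (t * pw f.w m * t⁻¹) by group, hv, htk,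
      ← f.el_w, f.el_mul, hb']
    simp [sub_eq_add_neg]
  have htb : t * b' * t⁻¹ = a' * b' := by
    rw [hb', show f.el v (l - m) = (t * f.a * t⁻¹) * pw f.w (-m) by
        rw [hv, ← f.el_w, f.el_mul]; simp [sub_eq_add_neg],
      show t * ((t * f.a * t⁻¹) * pw f.w (-m)) * t⁻¹ =
        (t * (t * f.a * t⁻¹) * t⁻¹) * (t * pw f.w (-m) * t⁻¹) by group, hv', htk', ← f.el_w, f.el_mul,
      ha', show t * f.a * t⁻¹ * pw f.w (-m) = f.el v (l - m) by
        rw [hv, ← f.el_w, f.el_mul]; simp [sub_eq_add_neg], f.el_mul, hsum']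
    simp
    congr 1
    linear_combination hm
  have hncomm : a' * b' ≠ b' * a' := by
    rw [ha', hb', f.el_mul, f.el_mul]
    intro e
    have h := (f.el_inj e).2
    simp at h
    exact hnc (by linear_combination h)
  obtain ⟨f', ea, eb⟩ := exists_frame' hA P (ha' ▸ f.el_mem _ _ : a' ∈ (P : Subgroup G))
    (hb' ▸ f.el_mem _ _ : b' ∈ (P : Subgroup G)) hncomm
  have ht8 : orderOf t = 8 := by
    have hd : t ^ 8 = 1 := orderOf_dvd_iff_pow_eq_one.1
      (card_pair hA hQ ▸ Subgroup.orderOf_dvd_natCard _ ht)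
    exact orderOf_eq_prime_pow (p := 2) (n := 2) (by simpa using h4) (by simpa using hd)
  refine ⟨⟨P, Q, hQ, f', t, ht, ht8, ?_, ?_, ?_⟩⟩
  · rw [ea, eb, hta]
  · rw [ea, eb, htb]
  · -- the new central element is a power of the old one
    have hw' : f'.w = a'⁻¹ * b'⁻¹ * a' * b' := by
      have h := f'.hrel
      rw [ea, eb] at h
      rw [show a'⁻¹ * b'⁻¹ * a' * b' = a'⁻¹ * b'⁻¹ * (b' * a' * f'.w) by
        rw [h]; group]
      group
    have hbw : b' * f'.w = f'.w * b' := ((f'.hcen _ (eb ▸ f'.hb)).eq).symm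
    have h := f'.hrel
    rw [ea, eb] at h
    rw [hw', show t * (a'⁻¹ * b'⁻¹ * a' * b') * t⁻¹ =
      (t * a' * t⁻¹)⁻¹ * (t * b' * t⁻¹)⁻¹ * (t * a' * t⁻¹) * (t * b' * t⁻¹) by group, hta, htb, ← hw']
    calc b'⁻¹ * (a' * b')⁻¹ * b' * (a' * b') = b'⁻¹ * (a' * b')⁻¹ * (b' * a') * b' := by group
      _ = b'⁻¹ * (f'.w⁻¹ * b') := by rw [h]; group
      _ = b'⁻¹ * (b' * f'.w⁻¹) := by rw [(Commute.inv_left (f'.hcen _ (eb ▸ f'.hb))).eq]
      _ = f'.w⁻¹ := inv_mul_cancel_left _ _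

end CfsgLib.Recog.USixty
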