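import Cfsg.Agent.Lib.ClassK.RowInvolution

/-!
# A search in the values of the principal 7-block at involutions, for the order 12096
-/

set_option autoImplicit false

namespace CfsgLib.Recog.USixty.Sieve

open CfsgLib.ClassK.RowInvolution (sgn qRange)

/-- Membership in `qRange`. -/
def okVal (d : ℕ) (a : ℤ) : Bool := decide ((a - d) % 4 = 0) && decide (-(d : ℤ) < a) && decide (a < d)

theorem okVal_of_mem {d : ℕ} {a : ℤ} (h : a ∈ qRange d) : okVal d a = true := by
  simp only [qRange, List.mem_map, List.mem_range] at h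
  obtain ⟨i, hi, rfl⟩ := h
  simp only [okVal, Bool.and_eq_true, decide_eq_true_eq]
  omega

/-- Value lists with bounded sum of squares and vanishing signed sum. -/
def srch (K : ℤ) (fin : ℤ → ℤ → Bool) : List (ℕ × Bool) → ℤ → ℤ → ℤ → Bool
  | [], A, E, Q => decide (A = 0) && fin E Q
  | [c], A, E, Q =>
    let a := -A * sgn c
    okVal c.1 a && decide (Q + a * a ≤ K) && fin (E + sgn c * a * a * ((12096 / c.1 : ℕ) : ℤ)) (Q + a * a)
  | c :: c' :: cs, A, E, Q => ((qRange c.1).filter fun a => decide (Q + a * a ≤ K)).any fun a =>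
    srch K fin (c' :: cs) (A + sgn c * a) (E + sgn c * a * a * ((12096 / c.1 : ℕ) : ℤ)) (Q + a * a)

theorem srch_sound {K : ℤ} {fin : ℤ → ℤ → Bool} :
    ∀ (r : List ((ℕ × Bool) × ℤ)) (A E Q : ℤ), (∀ a ∈ r, a.2 ∈ qRange a.1.1) →
      A + (r.map fun a => sgn a.1 * a.2).sum = 0 → Q + (r.map fun a => a.2 * a.2).sum ≤ K →
      fin (E + (r.map fun a => sgn a.1 * a.2 * a.2 * ((12096 / a.1.1 : ℕ) : ℤ)).sum)
        (Q + (r.map fun a => a.2 * a.2).sum) = true →
      srch K fin (r.map Prod.fst) A E Q = true
  | [], A, E, Q, _, h1, h2, h3 => by simp_all [srch]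
  | [(c, a)], A, E, Q, hm, h1, h2, h3 => by
    simp only [List.map_cons, List.map_nil, List.sum_cons, List.sum_nil, add_zero] at h1 h2 h3
    have ha : -A * sgn c = a := by
      have hs : sgn c * sgn c = 1 := by unfold sgn; split_ifs <;> norm_num
      linear_combination (-(sgn c)) * h1 + a * hs
    simp only [List.map_cons, List.map_nil, srch, ha, Bool.and_eq_true, decide_eq_true_eq]
    exact ⟨⟨okVal_of_mem (hm _ List.mem_cons_self), h2⟩, h3⟩
  | (c, a) :: (c', a') :: r, A, E, Q, hm, h1, h2, h3 => by
    simp only [List.map_cons, srch, List.any_eq_true, List.mem_filter, decide_eq_true_eq]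
    refine ⟨a, ⟨hm _ List.mem_cons_self, ?_⟩, ?_⟩
    · have hnn : (0 : ℤ) ≤ (((c', a') :: r).map fun a => a.2 * a.2).sum := List.sum_nonneg (by
        intro x hx
        obtain ⟨y, -, rfl⟩ := List.mem_map.1 hx
        exact mul_self_nonneg _)
      simp only [List.map_cons, List.sum_cons] at h2 hnn
      linarith
    · refine srch_sound ((c', a') :: r) _ _ _ (fun x hx => hm x (List.mem_cons_of_mem _ hx)) ?_ ?_ ?_
      · simp only [List.map_cons, List.sum_cons] at h1 ⊢; linarith
      · simp only [List.map_cons, List.sum_cons] at h2 ⊢; linarith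
      · simp only [List.map_cons, List.sum_cons] at h3 ⊢
        simpa only [← add_assoc] using h3

/-- The exceptional multiset. -/
def special : List (ℕ × Bool) := [(8, true), (36, true), (36, true), (27, false), (27, false), (27, false)]

/-- The degree multisets. -/
def degLists : List (List (ℕ × Bool)) :=
  (CfsgLib.ClassK.RowInvolution.sols 12096
    (CfsgLib.ClassK.RowSieve.cands 12096 (288 * 6) 7 110 false fun _ => true) 6 0).filter
    fun l => decide (1 + (l.map fun a => sgn a * (a.1 : ℤ)).sum = 0)

def invFin (E Q : ℤ) : Bool :=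
  [6, 12, 18, 24, 36, 48, 54, 72, 96, 108, 144, 192, 216, 288].any fun C : ℤ =>
    decide (E = 7 * (C * C)) && decide (Q ≤ C) && decide (C ≠ 48)

def invFin48 (E Q : ℤ) : Bool :=
  [6, 12, 18, 24, 36, 48, 54, 72, 96, 108, 144, 192, 216, 288].any fun C : ℤ =>
    decide (E = 7 * (C * C)) && decide (Q ≤ C)

theorem inverting_check : (degLists.all fun l =>
    if decide (l = special) then !(srch 288 invFin l 1 12096 1) else !(srch 288 invFin48 l 1 12096 1)) = true := by
  decide +kernel

theorem zero_check : srch 1728 (fun E _ => decide (E = 0)) special 1 12096 1 = false := by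
  decide +kernel

end CfsgLib.Recog.USixty.Sieve
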