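import Cfsg.Agent.Lib.Recog.USixty.Chars
import Cfsg.Agent.Lib.Recog.LThreeOrder

/-!
# The Sylow 3-subgroups: twenty-eight of them, extraspecial, with trivial intersections
-/

set_option autoImplicit false
set_option linter.unusedSectionVars false

namespace CfsgLib.Recog.USixty

open Subgroup

universe u

local notation "Cen[" x "]" => Subgroup.centralizer ({x} : Set _)

theorem pattern_zero : ∀ p ∈ ([-1, 0, 1] : List ℤ), ∀ q ∈ ([-1, 0, 1] : List ℤ),
    ∀ r ∈ ([-1, 0, 1] : List ℤ), ∀ s ∈ ([-1, 0, 1] : List ℤ),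
    Pattern p q r s → (p = 0 ∨ q = 0 ∨ r = 0 ∨ s = 0) ∧ (q = r → r = s → p = -1 ∧ q = 0) ∧
      ¬ (p = 0 ∧ q = 0 ∧ r = 0 ∧ s = 0) := by decide +kernel

variable {G : Type u} [Group G] [Finite G] {α : G → ℤ} (hA : Alpha G α)
include hA

theorem mem_range' {y : G} (hy : orderOf y = 3) : α y ∈ ([-1, 0, 1] : List ℤ) := by
  rcases hA.range y hy with e | e | e <;> simp [e]

theorem cube_of_mem {P : Subgroup G} {k : ℕ} (hP : Nat.card P = 3 ^ k) {y : G} (hy : y ∈ P) :
    y = 1 ∨ orderOf y = 3 := by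
  have hd : orderOf y ∣ 3 ^ k := hP ▸ Subgroup.orderOf_dvd_natCard P hy
  obtain ⟨j, -, hj⟩ := (Nat.dvd_prime_pow Nat.prime_three).1 hd
  rcases j with _ | _ | j
  · exact Or.inl (orderOf_eq_one_iff.1 hj)
  · exact Or.inr hj
  · exfalso
    refine hA.exp_three (y ^ 3 ^ j) ?_
    rw [orderOf_pow_of_dvd (pow_ne_zero _ (by norm_num)) (by rw [hj]; exact pow_dvd_pow 3 (by omega)), hj,
      Nat.pow_div (by omega) (by norm_num), show j + 1 + 1 - j = 2 by omega]

theorem orderOf_mem {P : Subgroup G} {k : ℕ} (hP : Nat.card P = 3 ^ k) {y : G} (hy : y ∈ P) (h1 : y ≠ 1) :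
    orderOf y = 3 := (cube_of_mem hA hP hy).resolve_left h1

/-- Every subgroup of order nine meets the zero set of the character. -/
theorem exists_zero {R : Subgroup G} (hR : Nat.card R = 9) : ∃ y ∈ R, orderOf y = 3 ∧ α y = 0 := by
  have : Fact (Nat.Prime 3) := ⟨Nat.prime_three⟩
  have hc := (IsPGroup.isMulCommutative_of_card_eq_prime_sq (p := 3) (G := R) (by rw [hR]; norm_num)).is_comm.comm
  obtain ⟨a, ha, ha1⟩ : ∃ a ∈ R, a ≠ 1 := by
    refine Subgroup.bot_or_exists_ne_one _ |>.resolve_left fun h => ?_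
    rw [h, Subgroup.card_bot] at hR; norm_num at hR
  have hP : Nat.card R = 3 ^ 2 := by rw [hR]; norm_num
  have ha3 := orderOf_mem hA hP ha ha1
  obtain ⟨b, hb, hba⟩ : ∃ b ∈ R, b ∉ zpowers a := by
    by_contra hno
    push Not at hno
    have := Subgroup.card_le_of_le (show R ≤ zpowers a from hno)
    rw [hR, Nat.card_zpowers, ha3] at this
    norm_num at this
  have hb3 := orderOf_mem hA hP hb (fun e => hba (e ▸ one_mem _))
  have hab : a * b = b * a := congrArg Subtype.val (hc ⟨a, ha⟩ ⟨b, hb⟩)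
  have hab3 : orderOf (a * b) = 3 := orderOf_mem hA hP (mul_mem ha hb) fun e => hba (by
    rw [eq_inv_of_mul_eq_one_right e]; exact inv_mem (mem_zpowers a))
  have habb3 : orderOf (a * b * b) = 3 := orderOf_mem hA hP (mul_mem (mul_mem ha hb) hb) fun e => hba (by
    have h2 : b * b = b⁻¹ := CfsgLib.Recog.LThreeOrder.cube_eq hb3
    rw [mul_assoc, h2, mul_inv_eq_one] at e
    exact e ▸ mem_zpowers a)
  rcases (pattern_zero _ (mem_range' hA ha3) _ (mem_range' hA hb3) _ (mem_range' hA hab3) _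
    (mem_range' hA habb3) (hA.plane a b ha3 hb3 hab hba)).1 with e | e | e | e
  · exact ⟨a, ha, ha3, e⟩
  · exact ⟨b, hb, hb3, e⟩
  · exact ⟨a * b, mul_mem ha hb, hab3, e⟩
  · exact ⟨a * b * b, mul_mem (mul_mem ha hb) hb, habb3, e⟩

/-- The centraliser of a subgroup of order nine has odd order. -/
theorem not_two_dvd {R : Subgroup G} (hR : Nat.card R = 9) {K : Subgroup G}
    (hK : ∀ k ∈ K, ∀ r ∈ R, r * k = k * r) : ¬ 2 ∣ Nat.card K := by
  intro h2
  obtain ⟨y, hy, hy3, hy0⟩ := exists_zero hA hR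
  have hle : K ≤ Cen[y] := fun k hk => mem_centralizer_singleton_iff.2 (hK k hk y hy).symm
  have := (h2.trans (Subgroup.card_dvd_of_le hle)).trans (hA.cen_zero y hy3 hy0)
  norm_num at this

theorem sylow_card (P : Sylow 3 G) : Nat.card (P : Subgroup G) = 3 ^ 3 := by
  have : Fact (Nat.Prime 3) := ⟨Nat.prime_three⟩
  rw [P.card_eq_multiplicity, hA.card, show (6048 : ℕ) = 3 ^ 3 * 224 by norm_num,
    Nat.factorization_mul (by norm_num) (by norm_num), Finsupp.add_apply,
    Nat.prime_three.factorization_pow, Finsupp.single_eq_same,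
    Nat.factorization_eq_zero_of_not_dvd (by norm_num)]

/-- A noncentral element of a Sylow 3-subgroup, and a central one. -/
theorem alpha_values {P : Sylow 3 G} {y g : G} (hy : y ∈ (P : Subgroup G)) (hg : g ∈ (P : Subgroup G))
    (hgy : g * y ≠ y * g) :
    α y = 0 ∧ orderOf (g * y * g⁻¹ * y⁻¹) = 3 ∧ α (g * y * g⁻¹ * y⁻¹) = -1 := by
  have hP := sylow_card hA P
  obtain ⟨c, hcdef⟩ : ∃ c, c = g * y * g⁻¹ * y⁻¹ := ⟨_, rfl⟩
  rw [← hcdef]
  have hmem : c ∈ (P : Subgroup G) := hcdef ▸ mul_mem (mul_mem (mul_mem hg hy) (inv_mem hg)) (inv_mem hy)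
  have hcen : ∀ r ∈ (P : Subgroup G), r * c = c * r := fun r hr => by
    have := CfsgLib.Recog.LThreeOrder.commutator_central (X := (P : Subgroup G)) (by rw [hP]; norm_num)
      ⟨g, hg⟩ ⟨y, hy⟩
    rw [hcdef]
    exact congrArg Subtype.val (Subgroup.mem_center_iff.1 this ⟨r, hr⟩)
  have hc1 : c ≠ 1 := fun e => hgy (by
    rw [hcdef, mul_inv_eq_one, mul_inv_eq_iff_eq_mul] at e; exact e)
  have hy1 : y ≠ 1 := fun e => hgy (by rw [e, mul_one, one_mul])
  have hc3 := orderOf_mem hA hP hmem hc1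
  have hy3 := orderOf_mem hA hP hy hy1
  have hycyc : y ∉ zpowers c := fun h => by
    obtain ⟨k, hk⟩ := mem_zpowers_iff.1 h
    exact hgy (by rw [← hk]; exact (Commute.zpow_right (hcen g hg) k).eq)
  have hp := hA.plane c y hc3 hy3 (hcen y hy).symm hycyc
  have hconj : g * y * g⁻¹ = c * y := by rw [hcdef]; group
  have e1 : α (c * y) = α y := hconj ▸ hA.conj_eq g y
  have e2 : α (c * y * y) = α y := by
    have hd : c * y * y = (g * (g * y * g⁻¹) * g⁻¹)⁻¹ := by
      rw [hconj]
      have hc' : g * (c * y) * g⁻¹ = c * (c * y) := by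
        calc g * (c * y) * g⁻¹ = (g * c) * y * g⁻¹ := by group
          _ = (c * g) * y * g⁻¹ := by rw [hcen g hg]
          _ = c * (g * y * g⁻¹) := by group
          _ = _ := by rw [hconj]
      rw [hc', ← mul_assoc, CfsgLib.Recog.LThreeOrder.cube_eq hc3, mul_inv_rev, inv_inv,
        mul_assoc c y y, CfsgLib.Recog.LThreeOrder.cube_eq hy3]
      exact (Commute.inv_right (hcen y hy).symm).eq
    rw [hd, hA.inv_eq _ (by
      rw [show g * (g * y * g⁻¹) * g⁻¹ = g * g * y * (g * g)⁻¹ by group,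
        CfsgLib.Recog.LThreeOrder.orderOf_conj, hy3]), hA.conj_eq, hA.conj_eq]
  have hcy3 : orderOf (c * y) = 3 := by rw [← hconj, CfsgLib.Recog.LThreeOrder.orderOf_conj, hy3]
  have hcyy3 : orderOf (c * y * y) = 3 := orderOf_mem hA hP (mul_mem (mul_mem hmem hy) hy) fun e => hycyc (by
    rw [mul_assoc, CfsgLib.Recog.LThreeOrder.cube_eq hy3, mul_inv_eq_one] at e
    exact e ▸ mem_zpowers c)
  obtain ⟨h1, h2⟩ := (pattern_zero _ (mem_range' hA hc3) _ (mem_range' hA hy3) _ (mem_range' hA hcy3) _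
    (mem_range' hA hcyy3) hp).2.1 e1.symm (e1.trans e2.symm)
  exact ⟨h2, hc3, h1⟩

/-- In a non-abelian Sylow 3-subgroup the central elements have the value `-1`. -/
theorem central_value {P : Sylow 3 G} {a b x : G} (ha : a ∈ (P : Subgroup G))
    (hb : b ∈ (P : Subgroup G)) (hab : a * b ≠ b * a) (hx : x ∈ (P : Subgroup G)) (hx1 : x ≠ 1)
    (hxc : ∀ p ∈ (P : Subgroup G), p * x = x * p) : α x = -1 := by
  have hP := sylow_card hA P
  have hx3 := orderOf_mem hA hP hx hx1
  have hb3 : orderOf b = 3 := orderOf_mem hA hP hb fun e => hab (by rw [e, mul_one, one_mul])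
  have hax : Commute a x := hxc a ha
  have hn1 : a * (x * b) ≠ x * b * a := fun e => hab (mul_left_cancel (a := x) (by
    rw [← mul_assoc, ← hax.eq, mul_assoc, e, mul_assoc]))
  have hn2 : a * (x * b * b) ≠ x * b * b * a := fun e => hab (by
    have h2 : Commute a (x * b * b) := e
    rw [mul_assoc, CfsgLib.Recog.LThreeOrder.cube_eq hb3] at h2
    have h3 : Commute a b⁻¹ := by
      have h4 := hax.inv_right.mul_right h2
      rwa [inv_mul_cancel_left] at h4
    simpa using h3.inv_right.eq)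
  have hxb3 : orderOf (x * b) = 3 :=
    orderOf_mem hA hP (mul_mem hx hb) fun e => hn1 (by rw [e, mul_one, one_mul])
  have hxbb3 : orderOf (x * b * b) = 3 :=
    orderOf_mem hA hP (mul_mem (mul_mem hx hb) hb) fun e => hn2 (by rw [e, mul_one, one_mul])
  have hxnb : b ∉ zpowers x := fun h => hab (by
    obtain ⟨k, rfl⟩ := mem_zpowers_iff.1 h
    exact (hax.zpow_right k).eq)
  have h1 := (alpha_values hA hb ha hab).1
  have h2 := (alpha_values hA (mul_mem hx hb) ha hn1).1
  have h3 := (alpha_values hA (mul_mem (mul_mem hx hb) hb) ha hn2).1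
  exact ((pattern_zero _ (mem_range' hA hx3) _ (mem_range' hA hb3) _ (mem_range' hA hxb3) _
    (mem_range' hA hxbb3) (hA.plane x b hx3 hb3 (hxc b hb).symm hxnb)).2.1 (h1.trans h2.symm)
      (h2.trans h3.symm)).1

/-- A zero of the character in a Sylow 3-subgroup has its centraliser there. -/
theorem cen_le {P : Sylow 3 G} {x : G} (hx : orderOf x = 3) (h0 : α x = 0) (hxP : x ∈ (P : Subgroup G))
    {g : G} (hg : g ∈ (P : Subgroup G)) (hgx : g * x ≠ x * g) :
    Cen[x] ≤ (P : Subgroup G) ∧ Nat.card Cen[x] = 9 := by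
  have : Fact (Nat.Prime 3) := ⟨Nat.prime_three⟩
  have hP := sylow_card hA P
  have hC := hA.cen_zero x hx h0
  obtain ⟨j, hj, hj'⟩ := (Nat.dvd_prime_pow Nat.prime_three).1 (show Nat.card Cen[x] ∣ 3 ^ 3 by norm_num; exact hC)
  have hj3 : j ≠ 3 := by
    intro e
    subst e
    -- a Sylow subgroup with `x` in its centre
    obtain ⟨T, hT⟩ := (IsPGroup.of_card hj').exists_le_sylow
    have hTC : Cen[x] = (T : Subgroup G) :=
      Subgroup.eq_of_le_of_card_ge hT (by rw [sylow_card hA T, hj'])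
    by_cases hab : ∀ a ∈ (T : Subgroup G), ∀ b ∈ (T : Subgroup G), a * b = b * a
    · -- a conjugate of the abelian group is `P`
      obtain ⟨k, hk⟩ := MulAction.exists_smul_eq G T P
      obtain ⟨g', hg', eg⟩ : g ∈ ((T : Subgroup G)).map (MulAut.conj k).toMonoidHom := by
        rw [← hk] at hg; exact hg
      obtain ⟨x', hx', ex⟩ : x ∈ ((T : Subgroup G)).map (MulAut.conj k).toMonoidHom := by
        rw [← hk] at hxP; exact hxP
      refine hgx ?_
      rw [← eg, ← ex, ← map_mul, ← map_mul, hab g' hg' x' hx']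
    · push Not at hab
      obtain ⟨a, ha, b, hb, hab⟩ := hab
      have hxT : x ∈ (T : Subgroup G) := hTC ▸ mem_centralizer_singleton_iff.2 rfl
      have := central_value hA ha hb hab hxT (fun e => by rw [e, orderOf_one] at hx; norm_num at hx)
        fun r hr => mem_centralizer_singleton_iff.1 (hTC.symm ▸ hr)
      omega
  -- the intersection with `P` has order at least nine
  have hsub : Nat.card ↥((P : Subgroup G) ⊓ Cen[x]) ≤ Nat.card Cen[x] := Subgroup.card_le_of_le inf_le_right
  obtain ⟨-, hc3, -⟩ := alpha_values hA hxP hg hgx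
  set c := g * x * g⁻¹ * x⁻¹
  have hcP : c ∈ (P : Subgroup G) := mul_mem (mul_mem (mul_mem hg hxP) (inv_mem hg)) (inv_mem hxP)
  have hcx : c * x = x * c := by
    have := CfsgLib.Recog.LThreeOrder.commutator_central (X := (P : Subgroup G)) (by rw [hP]; norm_num)
      ⟨g, hg⟩ ⟨x, hxP⟩
    exact (congrArg Subtype.val (Subgroup.mem_center_iff.1 this ⟨x, hxP⟩)).symm
  have hxz : x ∉ zpowers c := fun h => by
    have := CfsgLib.Recog.LThreeOrder.commutator_central (X := (P : Subgroup G)) (by rw [hP]; norm_num)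
      ⟨g, hg⟩ ⟨x, hxP⟩
    obtain ⟨k, hk⟩ := mem_zpowers_iff.1 h
    exact hgx (by
      rw [← hk]
      exact ((congrArg Subtype.val (Subgroup.mem_center_iff.1 this ⟨g, hg⟩) : g * c = c * g) |>
        fun e => (Commute.zpow_right e k).eq))
  have h3 : 3 < Nat.card ↥((P : Subgroup G) ⊓ Cen[x]) := by
    by_contra hle
    push Not at hle
    have := Subgroup.eq_of_le_of_card_ge
      (Subgroup.zpowers_le.2 (Subgroup.mem_inf.2
        (⟨hcP, mem_centralizer_singleton_iff.2 hcx⟩ : c ∈ (P : Subgroup G) ∧ c ∈ Cen[x])))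
      (by rw [Nat.card_zpowers, hc3]; exact hle)
    exact hxz (this ▸ ⟨hxP, mem_centralizer_singleton_iff.2 rfl⟩)
  have hj2 : j = 2 := by
    rw [hj'] at hsub
    interval_cases j <;> simp only [Nat.reducePow] at hsub <;> omega
  subst hj2
  refine ⟨?_, hj'⟩
  have h9 : 9 ≤ Nat.card ↥((P : Subgroup G) ⊓ Cen[x]) := by
    obtain ⟨i, hi, hi'⟩ := (Nat.dvd_prime_pow Nat.prime_three).1
      (hP ▸ Subgroup.card_dvd_of_le (inf_le_left : (P : Subgroup G) ⊓ Cen[x] ≤ P))
    rw [hi'] at h3 ⊢
    interval_cases i <;> simp only [Nat.reducePow] at h3 ⊢ <;> omega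
  have := Subgroup.eq_of_le_of_card_ge (inf_le_right : (P : Subgroup G) ⊓ Cen[x] ≤ Cen[x])
    (by rw [hj']; exact h9)
  exact inf_eq_right.1 this

/-- Distinct Sylow 3-subgroups meet trivially. -/
theorem inf_eq_bot {P Q : Sylow 3 G} (hne : P ≠ Q) :
    (P : Subgroup G) ⊓ (Q : Subgroup G) = ⊥ := by
  have : Fact (Nat.Prime 3) := ⟨Nat.prime_three⟩
  by_contra hbot
  obtain ⟨x, ⟨hxP, hxQ⟩, hx1⟩ := ((Subgroup.bot_or_exists_ne_one _).resolve_left hbot)
  have hP := sylow_card hA P
  have hQ := sylow_card hA Q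
  have hx3 := orderOf_mem hA hP hxP hx1
  have hneq : (P : Subgroup G) ≠ Q := fun e => hne (Sylow.ext e)
  -- two Sylow subgroups inside one centraliser
  have key : ∀ (C : Subgroup G), Nat.card C ∣ 108 → (P : Subgroup G) ≤ C → (Q : Subgroup G) ≤ C →
      Nat.card C = 108 ∧ Nat.card ↥((P : Subgroup G) ⊓ Q) = 9 := by
    intro C hC hPC hQC
    have h27 : 3 ^ 3 ∣ Nat.card C := hP ▸ Subgroup.card_dvd_of_le hPC
    have hlt : 3 ^ 3 < Nat.card C := by
      by_contra hle
      push Not at hle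
      exact hneq ((Subgroup.eq_of_le_of_card_ge hPC (hP ▸ hle)).trans
        (Subgroup.eq_of_le_of_card_ge hQC (hQ ▸ hle)).symm)
    have hidx := Subgroup.relIndex_inf_mul_relIndex (P : Subgroup G) (Q : Subgroup G) C
    have hR : ((P : Subgroup G) ⊓ Q).relIndex P * Nat.card ↥((P : Subgroup G) ⊓ Q) = 27 := by
      rw [show (27 : ℕ) = 3 ^ 3 by norm_num, ← hP]
      rw [Subgroup.relIndex, ← Nat.card_congr (Subgroup.subgroupOfEquivOfLe inf_le_left).toEquiv]
      exact Subgroup.index_mul_card _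
    have hQi : (Q : Subgroup G).relIndex C * 27 = Nat.card C := by
      rw [show (27 : ℕ) = 3 ^ 3 by norm_num, ← hQ, Subgroup.relIndex,
        ← Nat.card_congr (Subgroup.subgroupOfEquivOfLe hQC).toEquiv]
      exact Subgroup.index_mul_card _
    have hle : ((P : Subgroup G) ⊓ Q).relIndex P ≤ (Q : Subgroup G).relIndex C := by
      rw [inf_comm, Subgroup.inf_relIndex_right]
      exact Subgroup.relIndex_le_of_le_right hPC (by
        intro h0; rw [h0, zero_mul] at hQi; exact Nat.card_pos.ne' hQi.symm)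
    have hne27 : Nat.card ↥((P : Subgroup G) ⊓ Q) ≠ 27 := fun e => hneq
      ((Subgroup.eq_of_le_of_card_ge (inf_le_left : (P : Subgroup G) ⊓ Q ≤ P) (by rw [hP, e]; norm_num)).symm.trans
        (Subgroup.eq_of_le_of_card_ge (inf_le_right : (P : Subgroup G) ⊓ Q ≤ Q) (by rw [hQ, e]; norm_num)))
    have hC108 : Nat.card C ≤ 108 := Nat.le_of_dvd (by norm_num) hC
    obtain ⟨i, hi, hi'⟩ := (Nat.dvd_prime_pow Nat.prime_three).1
      (hP ▸ Subgroup.card_dvd_of_le (inf_le_left : (P : Subgroup G) ⊓ Q ≤ P))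
    obtain ⟨m, hm⟩ := h27
    have hm4 : m = 2 ∨ m = 4 := by
      rw [hm] at hC
      have : m ∈ Nat.divisors 4 := Nat.mem_divisors.2
        ⟨Nat.dvd_of_mul_dvd_mul_left (show 0 < 27 by norm_num) (by simpa using hC), by norm_num⟩
      rw [show Nat.divisors 4 = {1, 2, 4} by decide] at this
      simp only [Finset.mem_insert, Finset.mem_singleton] at this
      rw [hm] at hlt
      omega
    rw [hm] at hQi
    have hQm : (Q : Subgroup G).relIndex C = m := by norm_num at hQi ⊢; omega
    rw [hQm] at hle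
    rw [hi'] at hR hne27 ⊢
    interval_cases i
    · norm_num at hR; omega
    · norm_num at hR
      rcases hm4 with rfl | rfl <;> omega
    · simp only [Nat.reducePow] at hR ⊢ hm
      rcases hm4 with rfl | rfl <;> refine ⟨?_, trivial⟩ <;> omega
    · exact absurd rfl hne27
  by_cases hPab : ∀ a ∈ (P : Subgroup G), ∀ b ∈ (P : Subgroup G), a * b = b * a
  · -- abelian Sylow subgroups
    have hQab : ∀ a ∈ (Q : Subgroup G), ∀ b ∈ (Q : Subgroup G), a * b = b * a := by
      obtain ⟨k, hk⟩ := MulAction.exists_smul_eq G P Q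
      intro a ha b hb
      rw [← hk] at ha hb
      obtain ⟨a', ha', rfl⟩ := ha
      obtain ⟨b', hb', rfl⟩ := hb
      show MulAut.conj k a' * MulAut.conj k b' = MulAut.conj k b' * MulAut.conj k a'
      rw [← map_mul, ← map_mul, hPab a' ha' b' hb']
    obtain ⟨-, h9⟩ := key Cen[x] (hA.cen_dvd x hx3)
      (fun p hp => mem_centralizer_singleton_iff.2 (hPab p hp x hxP))
      (fun q hq => mem_centralizer_singleton_iff.2 (hQab q hq x hxQ))
    have hK : ∀ k ∈ (P : Subgroup G) ⊔ (Q : Subgroup G), ∀ r ∈ (P : Subgroup G) ⊓ Q, r * k = k * r := by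
      intro k hk r hr
      refine (mem_centralizer_singleton_iff.1 ((sup_le ?_ ?_ : (P : Subgroup G) ⊔ Q ≤ Cen[r]) hk)).symm
      · exact fun p hp => mem_centralizer_singleton_iff.2 (hPab p hp r hr.1)
      · exact fun q hq => mem_centralizer_singleton_iff.2 (hQab q hq r hr.2)
    have hle : (P : Subgroup G) ⊔ Q ≤ Cen[x] := fun k hk =>
      mem_centralizer_singleton_iff.2 (hK k hk x ⟨hxP, hxQ⟩).symm
    obtain ⟨h108, -⟩ := key _ ((Subgroup.card_dvd_of_le hle).trans (hA.cen_dvd x hx3)) le_sup_left le_sup_right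
    exact not_two_dvd hA h9 hK (h108 ▸ by norm_num)
  · push Not at hPab
    obtain ⟨a, ha, b, hb, hab⟩ := hPab
    -- a common central element
    obtain ⟨z, hzP, hzQ, hz3, hzm⟩ :
        ∃ z : G, z ∈ (P : Subgroup G) ∧ z ∈ (Q : Subgroup G) ∧ orderOf z = 3 ∧ α z = -1 := by
      by_cases hall : ∀ p ∈ (P : Subgroup G), p * x = x * p
      · exact ⟨x, hxP, hxQ, hx3, central_value hA ha hb hab hxP hx1 hall⟩
      push Not at hall
      obtain ⟨g, hg, hgx⟩ := hall
      have hx0 := (alpha_values hA hxP hg hgx).1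
      obtain ⟨hCP, -⟩ := cen_le hA hx3 hx0 hxP hg hgx
      obtain ⟨g', hg', hgx'⟩ : ∃ g ∈ (Q : Subgroup G), g * x ≠ x * g := by
        by_contra hno
        push Not at hno
        exact hneq (Subgroup.eq_of_le_of_card_ge
          ((show (Q : Subgroup G) ≤ Cen[x] from fun q hq => mem_centralizer_singleton_iff.2 (hno q hq)).trans
            hCP) (by rw [hP, hQ])).symm
      obtain ⟨-, hc3, hcm⟩ := alpha_values hA hxQ hg' hgx'
      refine ⟨_, hCP (mem_centralizer_singleton_iff.2 ?_),
        mul_mem (mul_mem (mul_mem hg' hxQ) (inv_mem hg')) (inv_mem hxQ), hc3, hcm⟩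
      have := CfsgLib.Recog.LThreeOrder.commutator_central (X := (Q : Subgroup G))
        (by rw [hQ]; norm_num) ⟨g', hg'⟩ ⟨x, hxQ⟩
      exact (congrArg Subtype.val (Subgroup.mem_center_iff.1 this ⟨x, hxQ⟩)).symm
    -- both Sylow subgroups centralise `z`
    have hcenz : ∀ {T : Sylow 3 G}, z ∈ (T : Subgroup G) → (T : Subgroup G) ≤ Cen[z] := fun {T} hzT p hp => by
      refine mem_centralizer_singleton_iff.2 ?_
      by_contra hpz
      rw [(alpha_values hA hzT hp hpz).1] at hzm
      norm_num at hzm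
    obtain ⟨h108, h9⟩ := key Cen[z] (hA.cen_dvd z hz3) (hcenz hzP) (hcenz hzQ)
    obtain ⟨R, hRdef⟩ : ∃ R, R = (P : Subgroup G) ⊓ Q := ⟨_, rfl⟩
    rw [← hRdef] at h9
    obtain ⟨y, hy, hy3, hy0⟩ := exists_zero hA h9
    have hRc := (IsPGroup.isMulCommutative_of_card_eq_prime_sq (p := 3) (G := R) (by rw [h9]; norm_num)).is_comm.comm
    -- the normaliser of the intersection in the centraliser of `z`
    have hnorm : ∀ {T : Sylow 3 G}, R ≤ (T : Subgroup G) → (T : Subgroup G) ≤ normalizer (R : Set G) :=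
        fun {T} hRT => by
      have hn : (R.subgroupOf (T : Subgroup G)).Normal := by
        refine Subgroup.normal_of_index_eq_minFac_card ?_
        have hi : (R.subgroupOf (T : Subgroup G)).index * 9 = 27 := by
          rw [← h9, ← Nat.card_congr (Subgroup.subgroupOfEquivOfLe hRT).toEquiv,
            Subgroup.index_mul_card, sylow_card hA T]
          norm_num
        rw [sylow_card hA T, Nat.pow_minFac (by norm_num), Nat.Prime.minFac_eq Nat.prime_three]
        omega
      exact (Subgroup.normal_subgroupOf_iff_le_normalizer hRT).1 hn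
    obtain ⟨K, hKdef⟩ : ∃ K, K = Cen[z] ⊓ normalizer (R : Set G) := ⟨_, rfl⟩
    obtain ⟨hK108, -⟩ := key K ((Subgroup.card_dvd_of_le (hKdef ▸ inf_le_left)).trans (hA.cen_dvd z hz3))
      (hKdef ▸ le_inf (hcenz hzP) (hnorm (hRdef ▸ inf_le_left)))
      (hKdef ▸ le_inf (hcenz hzQ) (hnorm (hRdef ▸ inf_le_right)))
    -- the orbit of a zero inside the intersection
    let act : MulAction K G := MulAction.compHom G (MulAut.conj.comp K.subtype)
    have horb : MulAction.orbit K y ⊆ (R : Set G) := by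
      rintro _ ⟨k, rfl⟩
      exact (Subgroup.mem_normalizer_iff.1 (hKdef ▸ k.2 : (k : G) ∈ Cen[z] ⊓ normalizer (R : Set G)).2 y).1 hy
    have hstab : Nat.card (MulAction.stabilizer K y) ∣ 27 := by
      refine dvd_trans ?_ (hA.cen_zero y hy3 hy0)
      rw [← Subgroup.card_map_of_injective K.subtype_injective]
      refine Subgroup.card_dvd_of_le ?_
      rintro _ ⟨k, hk, rfl⟩
      exact mem_centralizer_singleton_iff.2 (mul_inv_eq_iff_eq_mul.1 (show (k : G) * y * (k : G)⁻¹ = y from hk))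
    have hos : Nat.card (MulAction.orbit K y) * Nat.card (MulAction.stabilizer K y) = 108 := by
      rw [Nat.card_congr (MulAction.orbitEquivQuotientStabilizer K y), ← Subgroup.index_eq_card,
        Subgroup.index_mul_card, hK108]
    have ho9 : Nat.card (MulAction.orbit K y) ≤ 9 := by
      rw [← h9]
      exact Nat.card_le_card_of_injective (fun w => (⟨w.1, horb w.2⟩ : R))
        fun w w' e => Subtype.ext (congrArg (fun r : R => (r : G)) e)
    obtain ⟨i, hi, hi'⟩ := (Nat.dvd_prime_pow Nat.prime_three).1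
      (show Nat.card (MulAction.stabilizer K y) ∣ 3 ^ 3 by norm_num; exact hstab)
    rw [hi'] at hos
    -- more than nine conjugates, unless the stabiliser is a Sylow subgroup
    interval_cases i <;> simp only [Nat.reducePow] at hos <;> try omega
    obtain ⟨T, hT⟩ := (IsPGroup.of_card (p := 3) (G := MulAction.stabilizer K y) hi').map K.subtype |>.exists_le_sylow
    have hTe : (T : Subgroup G) = (MulAction.stabilizer K y).map K.subtype :=
      (Subgroup.eq_of_le_of_card_ge hT (by rw [sylow_card hA T, Subgroup.card_map_of_injective K.subtype_injective, hi'])).symm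
    have hyR : y ∈ (T : Subgroup G) := by
      rw [hTe]
      refine ⟨⟨y, ?_⟩, ?_, rfl⟩
      · rw [hKdef]
        exact ⟨hcenz hzP (hRdef ▸ hy : y ∈ (P : Subgroup G) ⊓ Q).1, Subgroup.le_normalizer hy⟩
      · show y * y * y⁻¹ = y
        group
    have hy' : y ∈ (P : Subgroup G) := (hRdef ▸ hy : y ∈ (P : Subgroup G) ⊓ Q).1
    obtain ⟨g, hg, hgy⟩ : ∃ g ∈ (P : Subgroup G), g * y ≠ y * g := by
      by_contra hno
      push Not at hno
      have := central_value hA ha hb hab hy' (fun e => by rw [e, orderOf_one] at hy3; norm_num at hy3) hno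
      omega
    obtain ⟨hCP, h9'⟩ := cen_le hA hy3 hy0 hy' hg hgy
    have : Nat.card (T : Subgroup G) ∣ Nat.card Cen[y] := by
      refine Subgroup.card_dvd_of_le ?_
      rw [hTe]
      rintro _ ⟨k, hk, rfl⟩
      exact mem_centralizer_singleton_iff.2 (mul_inv_eq_iff_eq_mul.1 (show (k : G) * y * (k : G)⁻¹ = y from hk))
    rw [sylow_card hA T, h9'] at this
    norm_num at this

/-- There are twenty-eight Sylow 3-subgroups. -/
theorem card_sylow : Nat.card (Sylow 3 G) = 28 := by
  classical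
  have : Fact (Nat.Prime 3) := ⟨Nat.prime_three⟩
  obtain ⟨P⟩ := (inferInstance : Nonempty (Sylow 3 G))
  have hd : 27 ∣ Nat.card {Q : Sylow 3 G // Q ≠ P} := by
    let act : MulAction (P : Subgroup G) {Q : Sylow 3 G // Q ≠ P} :=
      { smul := fun x Q => ⟨(x : G) • Q.1, fun e => Q.2 (smul_left_cancel (x : G)
          (e.trans (Sylow.smul_eq_iff_mem_normalizer.2 (Subgroup.le_normalizer x.2)).symm))⟩
        one_smul := fun Q => Subtype.ext (one_smul _ Q.1)
        mul_smul := fun x y Q => Subtype.ext (mul_smul (x : G) (y : G) Q.1) }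
    refine CfsgLib.Recog.LThreeOrder.dvd_card_of_orbits (X := (P : Subgroup G)) fun Q => ?_
    have hbot : MulAction.stabilizer (P : Subgroup G) Q = ⊥ := by
      rw [eq_bot_iff]
      intro x hx
      have hfix : (x : G) • Q.1 = Q.1 := congrArg Subtype.val hx
      have hxN : (x : G) ∈ normalizer ((Q.1 : Subgroup G) : Set G) := Sylow.smul_eq_iff_mem_normalizer.1 hfix
      have hxQ : (x : G) ∈ (Q.1 : Subgroup G) := by
        have hle : zpowers (x : G) ≤ normalizer ((Q.1 : Subgroup G) : Set G) := zpowers_le.2 hxN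
        have h2 := IsPGroup.inf_normalizer_sylow ((P.isPGroup').to_le (zpowers_le.2 x.2)) Q.1
        have h3 : zpowers (x : G) ⊓ normalizer ((Q.1 : Subgroup G) : Set G) = zpowers (x : G) :=
          inf_eq_left.2 hle
        have h4 := h3.symm.trans h2
        exact (h4.le (mem_zpowers (x : G))).2
      have : (x : G) ∈ (P : Subgroup G) ⊓ (Q.1 : Subgroup G) := ⟨x.2, hxQ⟩
      rw [inf_eq_bot hA (Ne.symm Q.2), Subgroup.mem_bot] at this
      rw [Subgroup.mem_bot]; exact Subtype.ext this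
    rw [hbot, Subgroup.index_bot, sylow_card hA P]
    norm_num
  have hsum : Nat.card {Q : Sylow 3 G // Q ≠ P} + 1 = Nat.card (Sylow 3 G) := by
    have := Fintype.ofFinite (Sylow 3 G)
    rw [Nat.card_eq_fintype_card, Nat.card_eq_fintype_card, Fintype.card_subtype_compl,
      Fintype.card_subtype_eq]
    have := Fintype.card_pos (α := Sylow 3 G)
    omega
  have h224 : Nat.card (Sylow 3 G) ∣ 224 := by
    have h2 := P.card_dvd_index
    have h1 := (P : Subgroup G).index_mul_card
    rw [hA.card, sylow_card hA P] at h1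
    rwa [show (P : Subgroup G).index = 224 by omega] at h2
  have hne : Nat.card (Sylow 3 G) ≠ 1 := fun h1 => by
    have := hA.simple
    have hnor : (P : Subgroup G).Normal := by
      refine Subgroup.normalizer_eq_top_iff.1 (Subgroup.index_eq_one.1 ?_)
      exact P.card_eq_index_normalizer.symm.trans h1
    rcases hnor.eq_bot_or_eq_top with e | e <;> have := sylow_card hA P <;> rw [e] at this
    · rw [Subgroup.card_bot] at this; norm_num at this
    · rw [Subgroup.card_top, hA.card] at this; norm_num at this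
  have hmem : Nat.card (Sylow 3 G) ∈ (Nat.divisors 224).filter fun d => d % 27 = 1 :=
    Finset.mem_filter.2 ⟨Nat.mem_divisors.2 ⟨h224, by norm_num⟩, by omega⟩
  rw [show (Nat.divisors 224).filter (fun d => d % 27 = 1) = {1, 28} by decide +kernel] at hmem
  simp only [Finset.mem_insert, Finset.mem_singleton] at hmem
  omega

end CfsgLib.Recog.USixty
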