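import Cfsg.Agent.Lib.Recog.USixty.Model

/-!
# Uniqueness of the simple group of order 6048 with no elements of order 9, 14 or 21
-/

set_option autoImplicit false
set_option linter.unusedSectionVars false

namespace CfsgLib.Recog.USixty

open Subgroup CfsgLib.Recog.HeisThree

universe u v

variable {G : Type u} [Group G] [Finite G] (C : Cfg G) {α : G → ℤ} (hA : Alpha G α)
include C hA

/-- Coordinates of a point moved by the square of `h`. -/
theorem Cfg.big_coords {w : G} (hwP : w • C.P = C.Q) (hwQ : w • C.Q = C.P) {k : ℕ}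
    (hk : k ∈ ([1, 3, 5, 7] : List ℕ)) (hwh : w * C.h = C.h ^ k * w) {r : ℕ} (hr : r < 4) (hr1 : 1 ≤ r) :
    ∃ m < 3, ∃ o < 8, C.fn w (Search.reps r) = Search.hp (Search.reps (1 + m)) o := by
  obtain ⟨hlt, hne0⟩ := Search.reps_lt r hr
  have hy := (C.fn_spec hA w (Search.reps r)).1
  obtain ⟨h0, h27⟩ := C.fn_swap hA hwP hwQ
  have hne27 : C.fn w (Search.reps r) ≠ 27 := fun e => hne0
    (C.fn_inj hA w (by omega) (by norm_num) (e.trans h0.symm))
  have hne : C.fn w (Search.reps r) ≠ 0 := fun e => by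
    have := C.fn_inj hA w (by omega) (by norm_num) (e.trans h27.symm)
    omega
  have hsm : C.fn w (Search.reps r) ≠ 9 ∧ C.fn w (Search.reps r) ≠ 18 := by
    have key : Search.hp (C.fn w (Search.reps r)) (k * 2 % 8) ≠ C.fn w (Search.reps r) := fun e =>
      Search.big_move r hr hr1 (C.fn_inj hA w (Search.hp_lt (by omega) _) (by omega)
        (by rw [C.fn_hp hA hwh (by omega), e]))
    obtain ⟨h9, h18, -⟩ := Search.small_fix k hk
    exact ⟨fun e => key (by rw [e, h9]), fun e => key (by rw [e, h18])⟩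
  have hb := Search.pos_big _ (by omega) hne hsm.1 hsm.2
  obtain ⟨h4, h8, e⟩ := Search.pos_spec _ (show C.fn w (Search.reps r) < 27 by omega) hne
  refine ⟨(Search.pos (C.fn w (Search.reps r))).1 - 1, by omega, _, h8, ?_⟩
  rw [show 1 + ((Search.pos (C.fn w (Search.reps r))).1 - 1) = (Search.pos (C.fn w (Search.reps r))).1 by omega, e]

/-- Different orbits go to different orbits. -/
theorem Cfg.big_distinct {w : G} {k : ℕ} (hk : k ∈ ([1, 3, 5, 7] : List ℕ))
    (hwh : w * C.h = C.h ^ k * w) {r s m o o' : ℕ} (hr : r < 4) (hs : s < 4) (hrs : r ≠ s) (hm : m < 4)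
    (ho : o < 8) (ho' : o' < 8) (er : C.fn w (Search.reps r) = Search.hp (Search.reps m) o)
    (es : C.fn w (Search.reps s) = Search.hp (Search.reps m) o') : False := by
  obtain ⟨i, hi, e⟩ := Search.shift_check k hk o ho o' ho'
  have hmlt := (Search.reps_lt m hm).1
  refine Search.rep_orbit r hr s hs hrs i hi (C.fn_inj hA w (Search.hp_lt ?_ _) ?_ ?_)
  · have := (Search.reps_lt r hr).1; omega
  · have := (Search.reps_lt s hs).1; omega
  · rw [C.fn_hp hA hwh (by have := (Search.reps_lt r hr).1; omega), er, es, C.hp_add hA (by omega), ← e,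
      C.hp_eight hA (by omega), ← C.hp_eight hA (show Search.reps m < 28 by omega) (k * i % 8 + o),
      ← C.hp_eight hA (show Search.reps m < 28 by omega) (k * i + o)]
    congr 1
    omega

/-- The swap can be chosen to act as the unique model. -/
theorem Cfg.exists_model : ∃ w : G, w • C.P = C.Q ∧ w • C.Q = C.P ∧
    ∀ x < 28, w • C.pt x = C.pt (Search.wt (5, 0, 2, 6, 5) x) := by
  obtain ⟨w₀, hwP, hwQ⟩ := C.exists_swap hA
  obtain ⟨k, hk, hwh⟩ := C.swap_power hA hwP hwQ
  obtain ⟨m, hm, o, ho, em⟩ := C.big_coords hA hwP hwQ hk hwh (r := 1) (by norm_num) le_rfl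
  -- normalise
  obtain ⟨w, hwdef⟩ : ∃ w, w = C.h ^ (8 - o) * w₀ := ⟨_, rfl⟩
  have hP := Sylow.smul_eq_iff_mem_normalizer.2 (pow_mem C.h_mem (8 - o)).1
  have hQ := Sylow.smul_eq_iff_mem_normalizer.2 (pow_mem C.h_mem (8 - o)).2
  have hwP' : w • C.P = C.Q := by rw [hwdef, mul_smul, hwP, hQ]
  have hwQ' : w • C.Q = C.P := by rw [hwdef, mul_smul, hwQ, hP]
  have hwh' : w * C.h = C.h ^ k * w := by
    rw [hwdef, mul_assoc, hwh, ← mul_assoc, ← mul_assoc, (Commute.refl C.h).pow_pow _ _ |>.eq]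
  have hmlt := (Search.reps_lt (1 + m) (by omega)).1
  have e1 : C.fn w (Search.reps 1) = Search.reps (1 + m) := by
    refine C.pt_inj hA (C.fn_spec hA w _).1 (by omega) ?_
    rw [(C.fn_spec hA w _).2, hwdef, mul_smul, ← (C.fn_spec hA w₀ _).2, em,
      C.hp_smul (Search.hp_lt (by omega) _), C.hp_add hA (by omega), show 8 - o + o = 8 by omega,
      ← C.hp_eight hA (by omega)]
    rfl
  obtain ⟨m₂, hm₂, o₂, ho₂, e2⟩ := C.big_coords hA hwP' hwQ' hk hwh' (r := 2) (by norm_num) (by norm_num)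
  obtain ⟨m₃, hm₃, o₃, ho₃, e3⟩ := C.big_coords hA hwP' hwQ' hk hwh' (r := 3) (by norm_num) (by norm_num)
  have e1' : C.fn w (Search.reps 1) = Search.hp (Search.reps (1 + m)) 0 := e1
  obtain ⟨p, hp, hp'⟩ := List.any_eq_true.1 (Search.perm_check m hm m₂ hm₂ m₃ hm₃
    ⟨fun e => C.big_distinct hA hk hwh' (r := 1) (s := 2) (by norm_num) (by norm_num) (by norm_num)
        (by omega) (by norm_num) ho₂ e1' (e ▸ e2),
      fun e => C.big_distinct hA hk hwh' (r := 1) (s := 3) (by norm_num) (by norm_num) (by norm_num)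
        (by omega) (by norm_num) ho₃ e1' (e ▸ e3),
      fun e => C.big_distinct hA hk hwh' (r := 2) (s := 3) (by norm_num) (by norm_num) (by norm_num)
        (by omega) ho₂ ho₃ e2 (e ▸ e3)⟩)
  simp only [Bool.and_eq_true, beq_iff_eq] at hp'
  obtain ⟨⟨p0, p1⟩, p2⟩ := hp'
  obtain ⟨h0, h27⟩ := C.fn_swap hA hwP' hwQ'
  obtain ⟨i0, hi0, e0⟩ : ∃ i0 < 2, C.fn w 9 = ([9, 18] : List ℕ).getD i0 0 := by
    have hy := (C.fn_spec hA w 9).1
    obtain ⟨-, -, h92⟩ := Search.small_fix k hk
    have := C.fn_hp hA hwh' (x := 9) (by norm_num) 2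
    rw [h92] at this
    rcases Search.small_check k hk _ hy this.symm with e | e | e | e
    · exact absurd (C.fn_inj hA w (by norm_num) (by norm_num) (e.trans h27.symm)) (by norm_num)
    · exact ⟨0, by norm_num, by rw [e]; rfl⟩
    · exact ⟨1, by norm_num, by rw [e]; rfl⟩
    · exact absurd (C.fn_inj hA w (by norm_num) (by norm_num) (e.trans h0.symm)) (by norm_num)
  -- the table
  have htab : ∀ x < 28, C.fn w x = Search.wt (k, i0, p, o₂, o₃) x := by
    intro x hx
    unfold Search.wt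
    by_cases hx0 : x = 0
    · rw [if_pos hx0, hx0, h0]
    by_cases hx27 : x = 27
    · rw [if_neg hx0, if_pos hx27, hx27, h27]
    rw [if_neg hx0, if_neg hx27]
    obtain ⟨hr, hi, ex⟩ := Search.pos_spec x (by omega) hx0
    have hrlt := (Search.reps_lt _ hr).1
    have himg : C.fn w (Search.reps (Search.pos x).1) = Search.img (k, i0, p, o₂, o₃) (Search.pos x).1 := by
      rcases h : (Search.pos x).1 with _ | _ | _ | _ | r
      · exact e0
      · rw [e1]; show _ = Search.reps (1 + Search.pm p 0); rw [p0]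
      · rw [e2]; show _ = Search.hpT (Search.reps (1 + Search.pm p 1)) o₂
        rw [p1, Search.hpT_eq _ (by have := (Search.reps_lt (1 + m₂) (by omega)).1; omega) _ ho₂]
      · rw [e3]; show _ = Search.hpT (Search.reps (1 + Search.pm p 2)) o₃
        rw [p2, Search.hpT_eq _ (by have := (Search.reps_lt (1 + m₃) (by omega)).1; omega) _ ho₃]
      · omega
    conv_lhs => rw [← ex]
    rw [Search.hpT_eq _ (himg ▸ (C.fn_spec hA w _).1) _ (Nat.mod_lt _ (by norm_num)), ← himg,
      C.fn_hp hA hwh' (by omega)]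
  -- closure at two points
  have hok : ∀ u, u < 27 → u ≠ 0 → Search.okAt (Search.wt (k, i0, p, o₂, o₃)) u = true := by
    intro u hu hu0
    have hv : C.fn w u < 27 := by
      have := (C.fn_spec hA w u).1
      by_contra hlt
      exact hu0 (C.fn_inj hA w (by omega) (by norm_num) ((show C.fn w u = 27 by omega).trans h0.symm))
    have hpu : C.dec u • C.Q = C.pt u := by rw [Cfg.pt, if_neg (by omega)]
    obtain ⟨b, hb, i, hi, e⟩ := C.stab_inf hA (g := w⁻¹ * ((C.dec (C.fn w u))⁻¹ * w * C.dec u * w)) (by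
      simp only [mul_smul]
      rw [hwP', hpu, ← (C.fn_spec hA w u).2, Cfg.pt, if_neg (show C.fn w u ≠ 27 by omega), inv_smul_smul,
        inv_smul_eq_iff, hwP'])
    have key : ∀ x < 28, C.fn w (Search.T u (C.fn w x)) =
        Search.T (C.fn w u) (C.fn w (Search.T b (Search.hp x i))) := by
      intro x hx
      refine C.pt_inj hA (C.fn_spec hA w _).1 Search.T_lt ?_
      rw [(C.fn_spec hA w _).2, ← C.T_smul hv (C.fn_spec hA w _).1, (C.fn_spec hA w _).2,
        ← C.T_smul hb (Search.hp_lt hx _), ← C.T_smul hu (C.fn_spec hA w x).1, (C.fn_spec hA w x).2,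
        ← C.hp_smul hx, ← mul_smul, ← mul_smul, ← mul_smul, ← mul_smul, ← mul_smul]
      congr 1
      rw [mul_assoc (C.dec (C.fn w u) * w), ← e]
      group
    have hbT : Search.T (C.fn w u) (C.fn w b) = 0 := by
      have := key 0 (by norm_num)
      have hh0 : ∀ n, Search.hp 0 n = 0 := by
        intro n
        induction n with
        | zero => rfl
        | succ n ih => rw [Search.hp, ih]; rfl
      have hTb : Search.T b 0 = b := by
        refine C.pt_inj hA Search.T_lt (by omega) ?_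
        rw [← C.T_smul hb (by norm_num), C.pt_zero, Cfg.pt, if_neg (by omega)]
      rw [hh0, hTb, h0, show Search.T u 27 = 27 from if_pos rfl, h27] at this
      exact this.symm
    simp only [Search.okAt, List.any_eq_true, List.all_eq_true, List.mem_range, Bool.and_eq_true, beq_iff_eq]
    refine ⟨b, hb, by rw [← htab u (by omega), ← htab b (by omega)]; exact hbT, i, hi, fun x hx => ?_⟩
    simp only [List.mem_cons, List.not_mem_nil, or_false] at hx
    have hx28 : x < 28 := by omega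
    rw [Search.hpT_eq x hx28 i hi, ← htab u (by omega), ← htab x hx28, ← htab _ Search.T_lt,
      ← htab _ Search.T_lt]
    exact key x hx28
  have hc := Search.cands_check hk (Search.mem_cands hi0 (List.mem_range.1 hp) ho₂ ho₃)
    (hok 9 (by norm_num) (by norm_num)) (hok 1 (by norm_num) (by norm_num))
  refine ⟨w, hwP', hwQ', fun x hx => ?_⟩
  rw [← (C.fn_spec hA w x).2, htab x hx, hc]

/-- The permutation representation on the points. -/
noncomputable def Cfg.rep : G →* Equiv.Perm (Fin 28) :=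
  (Equiv.ofBijective _ (C.pt_bij hA)).symm.permCongrHom.toMonoidHom.comp (MulAction.toPermHom G (Sylow 3 G))

theorem Cfg.rep_apply (g : G) (x : Fin 28) : C.pt (C.rep hA g x) = g • C.pt x := by
  show C.pt ((Equiv.ofBijective _ (C.pt_bij hA)).symm (g • C.pt x) : Fin 28) = g • C.pt x
  exact (Equiv.ofBijective _ (C.pt_bij hA)).apply_symm_apply (g • C.pt x)

theorem Cfg.rep_val {g : G} (f : ℕ → ℕ) (hf : ∀ x < 28, f x < 28 ∧ g • C.pt x = C.pt (f x)) (x : Fin 28) :
    (C.rep hA g x : ℕ) = f x :=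
  C.pt_inj hA (C.rep hA g x).2 (hf x x.2).1 ((C.rep_apply hA g x).trans (hf x x.2).2)

theorem Cfg.rep_inj : Function.Injective (C.rep hA) := by
  have := hA.simple
  rw [← MonoidHom.ker_eq_bot_iff]
  refine ((C.rep hA).normal_ker.eq_bot_or_eq_top).resolve_right fun h => ?_
  have ha : C.rep hA C.f.a = 1 := MonoidHom.mem_ker.1 (h ▸ Subgroup.mem_top _)
  have := C.rep_val hA (g := C.f.a) (Search.T 1) (fun x hx => ⟨Search.T_lt, by
    rw [← C.T_smul (by norm_num) hx, C.dec_one]⟩) 0
  rw [ha] at this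
  exact absurd this (by decide)

theorem Cfg.closure_eq {w : G} (hwP : w • C.P = C.Q) (hwQ : w • C.Q = C.P) :
    Subgroup.closure ({C.f.a, C.f.b, C.h, w} : Set G) = ⊤ := by
  obtain ⟨M, hM⟩ : ∃ M, M = Subgroup.closure ({C.f.a, C.f.b, C.h, w} : Set G) := ⟨_, rfl⟩
  rw [← hM]
  have hmem : ∀ x ∈ ({C.f.a, C.f.b, C.h, w} : Set G), x ∈ M := fun x hx => hM ▸ Subgroup.subset_closure hx
  have ha := hmem C.f.a (by simp)
  have hb := hmem C.f.b (by simp)
  have hw : C.f.w ∈ M := by
    have e : C.f.w = C.f.a⁻¹ * C.f.b⁻¹ * C.f.a * C.f.b := by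
      have h := C.f.hrel
      rw [show C.f.a⁻¹ * C.f.b⁻¹ * C.f.a * C.f.b = C.f.a⁻¹ * C.f.b⁻¹ * (C.f.b * C.f.a * C.f.w) by
        rw [h]; group]
      group
    rw [e]
    exact mul_mem (mul_mem (mul_mem (inv_mem ha) (inv_mem hb)) ha) hb
  have hdec : ∀ n, C.dec n ∈ M := fun n => by
    rw [C.dec_eq]
    exact mul_mem (mul_mem (pow_mem ha _) (pow_mem hb _)) (pow_mem hw _)
  rw [eq_top_iff']
  have hstab : ∀ g : G, g • C.P = C.P → g ∈ M := fun g hg => by
    obtain ⟨b, -, i, -, rfl⟩ := C.stab_inf hA hg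
    exact mul_mem (hdec b) (pow_mem (hmem C.h (by simp)) i)
  intro g
  by_cases hg : g • C.P = C.P
  · exact hstab g hg
  obtain ⟨x, hx, e⟩ := regular hA C.hne (R := g • C.P) hg
  obtain ⟨n, -, rfl⟩ := C.exists_dec hA hx
  have h1 := hstab ((C.dec n * w)⁻¹ * g) (by rw [mul_smul, ← e, inv_smul_eq_iff, mul_smul, hwP])
  have := mul_mem (mul_mem (hdec n) (hmem w (by simp))) h1
  rwa [mul_inv_cancel_left] at this

end CfsgLib.Recog.USixty

namespace CfsgLib.Recog.USixty

open Subgroup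

universe u₁ u₂

/-- Two configurations have the same image in the permutations of the points. -/
theorem range_rep_le {G : Type u₁} [Group G] [Finite G] {α : G → ℤ} (hA : Alpha G α) (C : Cfg G)
    {K : Type u₂} [Group K] [Finite K] {β : K → ℤ} (hB : Alpha K β) (D : Cfg K) :
    (C.rep hA).range ≤ (D.rep hB).range := by
  obtain ⟨w, hwP, hwQ, hw⟩ := C.exists_model hA
  obtain ⟨v, hvP, hvQ, hv⟩ := D.exists_model hB
  rw [MonoidHom.range_eq_map, ← C.closure_eq hA hwP hwQ, MonoidHom.map_closure, Subgroup.closure_le]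
  rintro _ ⟨g, hg, rfl⟩
  have key : ∀ (g : G) (k : K) (f : ℕ → ℕ), (∀ x < 28, f x < 28 ∧ g • C.pt x = C.pt (f x)) →
      (∀ x < 28, f x < 28 ∧ k • D.pt x = D.pt (f x)) → C.rep hA g ∈ (D.rep hB).range := fun g k f h1 h2 =>
    ⟨k, Equiv.ext fun x => Fin.ext ((D.rep_val hB f h2 x).trans (C.rep_val hA f h1 x).symm)⟩
  simp only [Set.mem_insert_iff, Set.mem_singleton_iff] at hg
  rcases hg with rfl | rfl | rfl | rfl
  · exact key _ D.f.a (Search.T 1)
      (fun x hx => ⟨Search.T_lt, by rw [← C.T_smul (by norm_num) hx, C.dec_one]⟩)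
      (fun x hx => ⟨Search.T_lt, by rw [← D.T_smul (by norm_num) hx, D.dec_one]⟩)
  · exact key _ D.f.b (Search.T 3)
      (fun x hx => ⟨Search.T_lt, by rw [← C.T_smul (by norm_num) hx, C.dec_three]⟩)
      (fun x hx => ⟨Search.T_lt, by rw [← D.T_smul (by norm_num) hx, D.dec_three]⟩)
  · exact key _ D.h Search.hN (fun x hx => ⟨Search.hN_lt hx, C.h_smul hx⟩)
      (fun x hx => ⟨Search.hN_lt hx, D.h_smul hx⟩)
  · have hlt : ∀ x < 28, Search.wt (5, 0, 2, 6, 5) x < 28 := by decide +kernel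
    exact key _ v (Search.wt (5, 0, 2, 6, 5)) (fun x hx => ⟨hlt x hx, hw x hx⟩)
      (fun x hx => ⟨hlt x hx, hv x hx⟩)

/-- Uniqueness. -/
theorem iso_of_alpha {G : Type u₁} [Group G] [Finite G] {α : G → ℤ} (hA : Alpha G α)
    {K : Type u₂} [Group K] [Finite K] {β : K → ℤ} (hB : Alpha K β) : Nonempty (G ≃* K) := by
  obtain ⟨C⟩ := exists_cfg hA
  obtain ⟨D⟩ := exists_cfg hB
  exact ⟨(MonoidHom.ofInjective (C.rep_inj hA)).trans ((MulEquiv.subgroupCongr
    (le_antisymm (range_rep_le hA C hB D) (range_rep_le hB D hA C))).trans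
      (MonoidHom.ofInjective (D.rep_inj hB)).symm)⟩

/-- Uniqueness, from the orders of the elements. -/
theorem iso_of_card {G : Type u₁} [Group G] [Finite G] [IsSimpleGroup G] (h : Nat.card G = 6048)
    (h9 : ∀ g : G, orderOf g ≠ 9) (h14 : ∀ g : G, orderOf g ≠ 14) (h21 : ∀ g : G, orderOf g ≠ 21)
    {K : Type u₂} [Group K] [Finite K] [IsSimpleGroup K] (hK : Nat.card K = 6048)
    (k9 : ∀ g : K, orderOf g ≠ 9) (k14 : ∀ g : K, orderOf g ≠ 14) (k21 : ∀ g : K, orderOf g ≠ 21) :
    Nonempty (G ≃* K) := by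
  obtain ⟨α, hA⟩ := exists_alpha h h9 h14 h21
  obtain ⟨β, hB⟩ := exists_alpha hK k9 k14 k21
  exact iso_of_alpha hA hB

end CfsgLib.Recog.USixty
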