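import Cfsg.Agent.Lib.Recog.USixty.TwelveSimple
import Cfsg.Agent.Lib.Recog.USixty.Unique
import Cfsg.Agent.Lib.Recog.USixty.AutSpectrum
import Cfsg.Agent.Lib.StructC.OrdersBelow3640

/-!
# A group of order 12096 without elements of order 9, 14, 21 is `Aut(PSU_3(3))`
-/

set_option autoImplicit false
set_option linter.unusedSectionVars false

namespace CfsgLib.Recog.USixty

open Subgroup

universe u

variable {G : Type u} [Group G] [Finite G] (h : Nat.card G = 12096) (h14 : ∀ g : G, orderOf g ≠ 14)
  (h21 : ∀ g : G, orderOf g ≠ 21)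

include h h14 h21 in
/-- An element of order seven acts without fixed points on a normalised subgroup prime to seven. -/
theorem seven_dvd_pred {R : Subgroup G} {x : G} (hx : orderOf x = 7)
    (hn : x ∈ normalizer (R : Set G)) (h7 : ¬ 7 ∣ Nat.card R) : 7 ∣ Nat.card R - 1 := by
  classical
  have : Fact (Nat.Prime 7) := ⟨by norm_num⟩
  let X := {y : R // (y : G) ≠ 1}
  have hle : zpowers x ≤ normalizer (R : Set G) := zpowers_le.2 hn
  let act : MulAction (zpowers x) X :=
    { smul := fun g y => ⟨⟨(g : G) * y.1 * (g : G)⁻¹, (mem_normalizer_iff.1 (hle g.2) _).1 y.1.2⟩,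
        fun e => y.2 (conj_eq_one_iff.1 e)⟩
      one_smul := fun y => Subtype.ext (Subtype.ext (show (1 : G) * y.1 * 1⁻¹ = y.1 by group))
      mul_smul := fun g k y => Subtype.ext (Subtype.ext
        (show ((g : G) * k) * y.1 * ((g : G) * k)⁻¹ = g * (k * y.1 * (k : G)⁻¹) * (g : G)⁻¹ by group)) }
  have hd : 7 ∣ Nat.card X := by
    refine CfsgLib.Recog.LThreeOrder.dvd_card_of_orbits (X := zpowers x) fun y => ?_
    have hbot : MulAction.stabilizer (zpowers x) y = ⊥ := by
      rw [eq_bot_iff]
      intro g hg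
      by_contra hne
      have e : (g : G) * y.1 * (g : G)⁻¹ = y.1 := congrArg (fun w : X => (w.1 : G)) hg
      have hg7 : orderOf (g : G) = 7 := by
        have hd : orderOf (g : G) ∣ 7 := by
          have := Subgroup.orderOf_dvd_natCard _ g.2
          rwa [Nat.card_zpowers, hx] at this
        exact ((Nat.dvd_prime (by norm_num)).1 hd).resolve_left fun e =>
          hne (Subgroup.mem_bot.2 (Subtype.ext (orderOf_eq_one_iff.1 e)))
      have hy : (y.1 : G) ∈ centralizer ({(g : G)} : Set G) :=
        mem_centralizer_singleton_iff.2 (mul_inv_eq_iff_eq_mul.1 e).symm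
      have hdy := Subgroup.orderOf_dvd_natCard _ hy
      rw [card_cen_seven h h14 h21 hg7] at hdy
      rcases (Nat.dvd_prime (by norm_num)).1 hdy with e1 | e1
      · exact y.2 (orderOf_eq_one_iff.1 e1)
      · exact h7 (e1 ▸ Subgroup.orderOf_dvd_natCard _ y.1.2)
    rw [hbot, Subgroup.index_bot, Nat.card_zpowers, hx]
  have hc : Nat.card X = Nat.card R - 1 := by
    have := Fintype.ofFinite R
    rw [Nat.card_eq_fintype_card, Nat.card_eq_fintype_card]
    have e : Fintype.card X = Fintype.card {y : R // ¬ y = 1} :=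
      Fintype.card_congr (Equiv.subtypeEquivRight fun y => by simp)
    rw [e, Fintype.card_subtype_compl, Fintype.card_subtype_eq]
  rwa [hc] at hd

include h h14 h21 in
/-- A subgroup prime to seven that is normal in a subgroup containing an element of order seven. -/
theorem card_normal_prime_to_seven {L K : Subgroup G} (hKL : K ≤ L) (hn : L ≤ normalizer (K : Set G))
    (hx : ∃ x ∈ L, orderOf x = 7) (h7 : ¬ 7 ∣ Nat.card K) :
    Nat.card K = 1 ∨ Nat.card K = 8 ∨ Nat.card K = 64 := by
  obtain ⟨x, hxL, hx7⟩ := hx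
  have : Fact (Nat.Prime 3) := ⟨Nat.prime_three⟩
  have : Fact (Nat.Prime 7) := ⟨by norm_num⟩
  have hd : Nat.card K ∣ 12096 := h ▸ Subgroup.card_subgroup_dvd_card K
  have h3 : ¬ 3 ∣ Nat.card K := by
    intro h3
    obtain ⟨R⟩ := (inferInstance : Nonempty (Sylow 3 K))
    have := hn
    have hKn : (K.subgroupOf L).Normal := (Subgroup.normal_subgroupOf_iff_le_normalizer hKL).2 hn
    -- an element of order seven normalising a Sylow 3-subgroup of `K`
    let R' : Subgroup G := (R : Subgroup K).map K.subtype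
    have hdvd : 7 ∣ Nat.card ↥(L ⊓ normalizer (R' : Set G)) := by
      have hL : 7 ∣ Nat.card L := hx7 ▸ Subgroup.orderOf_dvd_natCard _ hxL
      let T : Set (Subgroup G) := {S | ∃ R : Sylow 3 K, S = (R : Subgroup K).map K.subtype}
      have hT : ∀ g ∈ L, ∀ S ∈ T, S.map (MulAut.conj g).toMonoidHom ∈ T := by
        rintro g hg _ ⟨Q, rfl⟩
        let φ : K ≃* K :=
          { toFun := fun y => ⟨g * y * g⁻¹, (mem_normalizer_iff.1 (hn hg) y).1 y.2⟩
            invFun := fun y => ⟨g⁻¹ * y * g, by
              simpa using (mem_normalizer_iff.1 (hn (inv_mem hg)) y).1 y.2⟩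
            left_inv := fun y => Subtype.ext (show g⁻¹ * (g * y * g⁻¹) * g = y by group)
            right_inv := fun y => Subtype.ext (show g * (g⁻¹ * y * g) * g⁻¹ = y by group)
            map_mul' := fun y z => Subtype.ext (show g * (y * z) * g⁻¹ = (g * y * g⁻¹) * (g * z * g⁻¹) by group) }
        refine ⟨φ • Q, ?_⟩
        show _ = ((Q : Subgroup K).map φ.toMonoidHom).map K.subtype
        rw [Subgroup.map_map, Subgroup.map_map]
        rfl
      let act : MulAction L T :=
        { smul := fun g S => ⟨S.1.map (MulAut.conj (g : G)).toMonoidHom, hT g g.2 S S.2⟩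
          one_smul := fun S => Subtype.ext (SetLike.ext fun y => by
            show y ∈ S.1.map (MulAut.conj (1 : G)).toMonoidHom ↔ _
            rw [map_one]; exact ⟨fun ⟨z, hz, e⟩ => e ▸ hz, fun hz => ⟨y, hz, rfl⟩⟩)
          mul_smul := fun g k S => Subtype.ext (by
            show S.1.map (MulAut.conj ((g : G) * k)).toMonoidHom = _
            rw [map_mul]
            exact (Subgroup.map_map S.1 (MulAut.conj (g : G)).toMonoidHom (MulAut.conj (k : G)).toMonoidHom).symm) }
      let R0 : T := ⟨R', R, rfl⟩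
      -- transitive, hence a small orbit
      have hsurj : Function.Surjective fun k : K => (⟨k, hKL k.2⟩ : L) • R0 := by
        rintro ⟨_, Q, rfl⟩
        obtain ⟨k, hk⟩ := MulAction.exists_smul_eq K R Q
        refine ⟨k, Subtype.ext ?_⟩
        show R'.map (MulAut.conj (k : G)).toMonoidHom = _
        rw [← hk]
        show _ = ((R : Subgroup K).map (MulAut.conj k).toMonoidHom).map K.subtype
        rw [Subgroup.map_map, Subgroup.map_map]
        rfl
      have horb : MulAction.orbit L R0 = Set.univ := Set.eq_univ_of_forall fun S => by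
        obtain ⟨k, hk⟩ := hsurj S
        exact ⟨_, hk⟩
      have hos : Nat.card T * Nat.card (MulAction.stabilizer L R0) = Nat.card L := by
        rw [← Nat.card_univ (α := T), ← horb, Nat.card_congr (MulAction.orbitEquivQuotientStabilizer L R0),
          ← Subgroup.index_eq_card, Subgroup.index_mul_card]
      have hTK : ¬ 7 ∣ Nat.card T := fun hT7 => h7 (hT7.trans (by
        have hTe : Nat.card T = Nat.card (Sylow 3 K) := by
          refine (Nat.card_congr (Equiv.ofBijective (fun Q : Sylow 3 K => (⟨_, Q, rfl⟩ : T)) ⟨?_, ?_⟩)).symm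
          · intro Q Q' e
            exact Sylow.ext (Subgroup.map_injective K.subtype_injective (congrArg Subtype.val e))
          · rintro ⟨_, Q, rfl⟩; exact ⟨Q, rfl⟩
        rw [hTe]
        exact (R.card_dvd_index).trans (Subgroup.index_dvd_card _)))
      have hs : 7 ∣ Nat.card (MulAction.stabilizer L R0) :=
        ((Nat.Prime.dvd_mul (by norm_num)).1 (hos ▸ hL)).resolve_left hTK
      refine hs.trans ?_
      rw [← Subgroup.card_map_of_injective L.subtype_injective]
      refine Subgroup.card_dvd_of_le ?_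
      rintro _ ⟨g, hg, rfl⟩
      have e : R'.map (MulAut.conj (g : G)).toMonoidHom = R' := congrArg Subtype.val hg
      refine Subgroup.mem_inf.2 ⟨g.2, mem_normalizer_iff.2 fun y => ⟨fun hy => ?_, fun hy => ?_⟩⟩
      · rw [← e]; exact ⟨y, hy, rfl⟩
      · rw [← e] at hy
        obtain ⟨z, hz, ez⟩ := hy
        exact (mul_left_cancel (mul_right_cancel (ez : (g : G) * z * (g : G)⁻¹ = g * y * (g : G)⁻¹))) ▸ hz
    obtain ⟨⟨y, hy⟩, hy7⟩ := exists_prime_orderOf_dvd_card' 7 hdvd
    rw [← Subgroup.orderOf_coe] at hy7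
    obtain ⟨j, hj⟩ := IsPGroup.iff_card.1 (R.isPGroup'.map K.subtype)
    have hj3 : 3 ∣ Nat.card R' := by
      rw [Subgroup.card_map_of_injective K.subtype_injective, R.card_eq_multiplicity]
      exact dvd_pow_self 3 (Nat.Prime.factorization_pos_of_dvd Nat.prime_three Nat.card_pos.ne' h3).ne'
    have hj' : 3 ^ j ∣ 3 ^ 3 * 448 := by
      rw [← hj, show 3 ^ 3 * 448 = 12096 by norm_num, ← h]; exact Subgroup.card_subgroup_dvd_card _
    have hj3' : j ≤ 3 := (Nat.pow_dvd_pow_iff_le_right (by norm_num : 1 < 3)).1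
      ((Nat.Coprime.pow_left j (by norm_num : Nat.Coprime 3 448)).dvd_of_dvd_mul_right hj')
    have h7R : ¬ 7 ∣ Nat.card R' := fun hc => by
      rw [hj] at hc
      have := Nat.Prime.dvd_of_dvd_pow (show Nat.Prime 7 by norm_num) hc
      norm_num at this
    have := seven_dvd_pred h h14 h21 hy7 (Subgroup.mem_inf.1 hy).2 h7R
    rw [hj] at this hj3
    interval_cases j <;> revert this hj3 <;> norm_num
  have h1 := seven_dvd_pred h h14 h21 hx7 (hn hxL) h7
  have h64 : Nat.card K ∣ 64 := by
    have e1 : Nat.Coprime (Nat.card K) 189 := by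
      rw [show (189 : ℕ) = 3 ^ 3 * 7 by norm_num]
      exact Nat.Coprime.mul_right (((Nat.Prime.coprime_iff_not_dvd Nat.prime_three).2 h3).symm.pow_right 3)
        ((Nat.Prime.coprime_iff_not_dvd (by norm_num)).2 h7).symm
    exact e1.dvd_of_dvd_mul_right (by simpa using hd)
  have hm : Nat.card K ∈ Nat.divisors 64 := Nat.mem_divisors.2 ⟨h64, by norm_num⟩
  rw [show Nat.divisors 64 = {1, 2, 4, 8, 16, 32, 64} by decide] at hm
  simp only [Finset.mem_insert, Finset.mem_singleton] at hm
  rcases hm with e | e | e | e | e | e | e <;> rw [e] at h1 <;> omega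

include h h14 h21 in
theorem card_normal {N : Subgroup G} [N.Normal] (h7 : ¬ 7 ∣ Nat.card N) :
    Nat.card N = 1 ∨ Nat.card N = 8 ∨ Nat.card N = 64 := by
  have : Fact (Nat.Prime 7) := ⟨by norm_num⟩
  obtain ⟨x, hx⟩ := exists_prime_orderOf_dvd_card' (G := G) 7 (h ▸ by norm_num)
  exact card_normal_prime_to_seven h h14 h21 (L := ⊤) le_top
    (by rw [Subgroup.normalizer_eq_top]) ⟨x, mem_top _, hx⟩ h7

include h h14 h21 in
/-- A normal subgroup of order divisible by seven has order divisible by 2016. -/
theorem dvd_normal {N : Subgroup G} [N.Normal] (h7 : 7 ∣ Nat.card N) : 2016 ∣ Nat.card N := by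
  have : Fact (Nat.Prime 7) := ⟨by norm_num⟩
  have hall : ∀ P : Sylow 7 G, (P : Subgroup G) ≤ N := by
    intro P
    obtain ⟨y, hy⟩ := exists_prime_orderOf_dvd_card' (G := N) 7 h7
    rw [← Subgroup.orderOf_coe] at hy
    obtain ⟨Q, hQ⟩ := (IsPGroup.of_card (p := 7) (G := zpowers (y : G)) (n := 1)
      (by rw [Nat.card_zpowers, hy, pow_one])).exists_le_sylow
    have hQe : zpowers (y : G) = (Q : Subgroup G) := Subgroup.eq_of_le_of_card_ge hQ
      (by rw [Nat.card_zpowers, hy, (sylow_seven h h14 h21 Q).1])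
    have hQN : (Q : Subgroup G) ≤ N := hQe ▸ zpowers_le.2 y.2
    obtain ⟨g, rfl⟩ := MulAction.exists_smul_eq G Q P
    rintro _ ⟨z, hz, rfl⟩
    exact Subgroup.Normal.conj_mem inferInstance _ (hQN hz) g
  obtain ⟨P⟩ := (inferInstance : Nonempty (Sylow 7 G))
  let φ : Sylow 7 G → Sylow 7 N := fun P => P.subtype (hall P)
  have hφ : Function.Injective φ := fun P Q e => Sylow.ext (by
    have := congrArg (fun S : Sylow 7 N => (S : Subgroup N).map N.subtype) e
    simp only [φ, Sylow.coe_subtype, Subgroup.subgroupOf_map_subtype] at this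
    rwa [inf_eq_left.2 (hall P), inf_eq_left.2 (hall Q)] at this)
  have hφs : Function.Surjective φ := fun S => by
    obtain ⟨k, hk⟩ := MulAction.exists_smul_eq N (φ P) S
    refine ⟨(k : G) • P, ?_⟩
    rw [← hk]
    exact (Sylow.smul_subtype (hall P) k).symm
  have hn : Nat.card (Sylow 7 N) = 288 := by
    rw [← Nat.card_congr (Equiv.ofBijective φ ⟨hφ, hφs⟩)]
    exact (sylow_seven h h14 h21 P).2.1
  have hd := (φ P).card_dvd_index
  rw [hn] at hd
  have h1 := ((φ P : Sylow 7 N) : Subgroup N).index_mul_card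
  have hcard : Nat.card ((φ P : Sylow 7 N) : Subgroup N) = 7 := by
    rw [show ((φ P : Sylow 7 N) : Subgroup N) = (P : Subgroup G).subgroupOf N from rfl,
      Nat.card_congr (Subgroup.subgroupOfEquivOfLe (hall P)).toEquiv, (sylow_seven h h14 h21 P).1]
  rw [hcard] at h1
  rw [← h1]
  exact Nat.mul_dvd_mul hd (dvd_refl 7)

include h h14 h21 in
/-- The minimal normal subgroup is simple of order 6048. -/
theorem exists_socle : ∃ N : Subgroup G, N.Normal ∧ IsSimpleGroup N ∧ Nat.card N = 6048 := by
  classical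
  have : Fact (Nat.Prime 7) := ⟨by norm_num⟩
  have : Fact (Nat.Prime 2) := ⟨Nat.prime_two⟩
  have htop : (⊤ : Subgroup G).Normal ∧ (⊤ : Subgroup G) ≠ ⊥ := ⟨inferInstance, fun e => by
    have := congrArg (fun S : Subgroup G => Nat.card S) e
    simp [h] at this⟩
  obtain ⟨N, hNm⟩ : ∃ N : Subgroup G, (N.Normal ∧ N ≠ ⊥) ∧
      ∀ M : Subgroup G, M.Normal ∧ M ≠ ⊥ → Nat.card N ≤ Nat.card M := by
    obtain ⟨N, hN⟩ := Set.Finite.exists_minimalFor (fun M : Subgroup G => Nat.card M)
      {M : Subgroup G | M.Normal ∧ M ≠ ⊥} (Set.toFinite _) ⟨⊤, htop⟩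
    exact ⟨N, hN.prop, fun M hM => by
      by_contra hlt
      push Not at hlt
      exact absurd (hN.le_of_le hM hlt.le) (not_le.2 hlt)⟩
  obtain ⟨⟨hN, hNb⟩, hmin⟩ := hNm
  have hmin' : ∀ M : Subgroup G, M.Normal → M ≤ N → M ≠ ⊥ → M = N := fun M hM hle hne =>
    Subgroup.eq_of_le_of_card_ge hle (hmin M ⟨hM, hne⟩)
  -- seven divides the order
  have h7 : 7 ∣ Nat.card N := by
    by_contra h7
    rcases card_normal h h14 h21 h7 with e | e | e
    · exact hNb (Subgroup.card_eq_one.1 e)
    · let ψ : G →* Equiv.Perm N :=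
        (MulAut.toPerm (M := N) : MulAut N →* Equiv.Perm N).comp MulAut.conjNormal
      have hk7 : ¬ 7 ∣ Nat.card ψ.ker := fun hk => by
        obtain ⟨y, hy⟩ := exists_prime_orderOf_dvd_card' 7 hk
        rw [← Subgroup.orderOf_coe] at hy
        have : Fact (Nat.Prime 2) := ⟨Nat.prime_two⟩
        obtain ⟨z, hz⟩ := exists_prime_orderOf_dvd_card' (G := N) 2 (by rw [e]; norm_num)
        have he := congrArg Subtype.val (Equiv.ext_iff.1 (MonoidHom.mem_ker.1 y.2) z)
        rw [← Subgroup.orderOf_coe] at hz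
        exact not_comm_two h14 hy hz (mul_inv_eq_iff_eq_mul.1
          (show (y : G) * z * (y : G)⁻¹ = z from he)).symm
      have hk := card_normal h h14 h21 hk7
      have hi := ψ.ker.card_mul_index
      have hr : ψ.ker.index ∣ Nat.card (Equiv.Perm N) := by
        rw [Subgroup.index_ker]; exact Subgroup.card_subgroup_dvd_card _
      rw [Nat.card_perm, e] at hr
      rw [h] at hi
      rcases hk with e' | e' | e' <;> rw [e'] at hi
      · rw [show ψ.ker.index = 12096 by omega] at hr; norm_num [Nat.factorial] at hr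
      · rw [show ψ.ker.index = 1512 by omega] at hr; norm_num [Nat.factorial] at hr
      · rw [show ψ.ker.index = 189 by omega] at hr; norm_num [Nat.factorial] at hr
    · obtain ⟨P'⟩ := (inferInstance : Nonempty (Sylow 7 (G ⧸ N)))
      have hq : Nat.card (G ⧸ N) = 189 := by
        have := Subgroup.card_eq_card_quotient_mul_card_subgroup N
        rw [h, e] at this; omega
      have hP' : Nat.card (P' : Subgroup (G ⧸ N)) = 7 :=
        CfsgLib.Transfer.card_sylow_eq_prime P' (hq ▸ by norm_num) (hq ▸ by norm_num)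
      have h1 := card_sylow_modEq_one 7 (G ⧸ N)
      have h2 := P'.card_dvd_index
      have h3 := (P' : Subgroup (G ⧸ N)).card_mul_index
      rw [hq, hP'] at h3
      rw [show (P' : Subgroup (G ⧸ N)).index = 27 by omega] at h2
      have h4 : Nat.card (Sylow 7 (G ⧸ N)) = 1 := by
        have : Nat.card (Sylow 7 (G ⧸ N)) ∈ Nat.divisors 27 := Nat.mem_divisors.2 ⟨h2, by norm_num⟩
        rw [show Nat.divisors 27 = {1, 3, 9, 27} by decide] at this
        simp only [Finset.mem_insert, Finset.mem_singleton] at this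
        rw [Nat.ModEq] at h1
        omega
      have hnor : (P' : Subgroup (G ⧸ N)).Normal :=
        Subgroup.normalizer_eq_top_iff.1 (Subgroup.index_eq_one.1 (P'.card_eq_index_normalizer.symm.trans h4))
      let M := (P' : Subgroup (G ⧸ N)).comap (QuotientGroup.mk' N)
      have hM : M.Normal := hnor.comap _
      have hMc : Nat.card M = 448 := by
        have h5 : M.index = (P' : Subgroup (G ⧸ N)).index :=
          Subgroup.index_comap_of_surjective _ (QuotientGroup.mk'_surjective N)
        have h6 := M.card_mul_index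
        rw [h5, h, show (P' : Subgroup (G ⧸ N)).index = 27 by omega] at h6
        omega
      have := dvd_normal h h14 h21 (N := M) (hMc ▸ by norm_num)
      rw [hMc] at this
      norm_num at this
  have h2016 := dvd_normal h h14 h21 h7
  -- simple
  have hS : IsSimpleGroup N := by
    have : Nontrivial N := (Subgroup.nontrivial_iff_ne_bot N).2 hNb
    refine ⟨fun K hK => ?_⟩
    by_contra hne
    push Not at hne
    let K' := K.map N.subtype
    have hK'N : K' ≤ N := Subgroup.map_subtype_le K
    have hK'n : N ≤ normalizer (K' : Set G) := fun g hg => mem_normalizer_iff.2 fun y => by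
      constructor
      · rintro ⟨z, hz, rfl⟩
        exact ⟨_, hK.conj_mem z hz ⟨g, hg⟩, rfl⟩
      · rintro ⟨z, hz, ez⟩
        exact ⟨_, hK.conj_mem z hz ⟨g, hg⟩⁻¹, by
          show g⁻¹ * (z : G) * g⁻¹⁻¹ = y
          rw [show (z : G) = g * y * g⁻¹ from ez]; group⟩
    obtain ⟨⟨x, hxN⟩, hx⟩ := exists_prime_orderOf_dvd_card' (G := N) 7 h7
    rw [← Subgroup.orderOf_coe] at hx
    by_cases h7K : 7 ∣ Nat.card K'
    · -- all Sylow subgroups lie in `K`
      obtain ⟨⟨y, hy⟩, hy7⟩ := exists_prime_orderOf_dvd_card' 7 h7K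
      rw [← Subgroup.orderOf_coe] at hy7
      change orderOf y = 7 at hy7
      have key : ∀ g : G, g * y * g⁻¹ ∈ K' := by
        intro g
        obtain ⟨Q, hQ⟩ := (IsPGroup.of_card (p := 7) (G := zpowers y) (n := 1)
          (by rw [Nat.card_zpowers, hy7, pow_one])).exists_le_sylow
        have hQe : zpowers y = (Q : Subgroup G) := Subgroup.eq_of_le_of_card_ge hQ
          (by rw [Nat.card_zpowers, hy7, (sylow_seven h h14 h21 Q).1])
        have hQN : (Q : Subgroup G) ≤ N := hQe ▸ zpowers_le.2 (hK'N hy)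
        have hgQ : ((g • Q : Sylow 7 G) : Subgroup G) ≤ N := by
          rintro _ ⟨z, hz, rfl⟩
          exact Subgroup.Normal.conj_mem inferInstance _ (hQN hz) g
        obtain ⟨k, hk⟩ := MulAction.exists_smul_eq N (Q.subtype hQN) ((g • Q).subtype hgQ)
        rw [Sylow.smul_subtype hQN] at hk
        have he := Sylow.subtype_injective hk
        have hm : g * y * g⁻¹ ∈ (((k : G) • Q : Sylow 7 G) : Subgroup G) := by
          rw [show (k : G) • Q = g • Q from he]; exact ⟨y, hQ (mem_zpowers y), rfl⟩
        obtain ⟨z, hz, ez⟩ := hm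
        rw [← ez]
        exact (mem_normalizer_iff.1 (hK'n k.2) z).1 (hQe ▸ zpowers_le.2 hy <| hz)
      let M := Subgroup.normalClosure ({y} : Set G)
      have hMK : M ≤ K' := (Subgroup.closure_le _).2 fun z hz => by
        obtain ⟨a, ha, hc⟩ := Group.mem_conjugatesOfSet_iff.1 hz
        rw [Set.mem_singleton_iff.1 ha] at hc
        obtain ⟨g, hg⟩ := isConj_iff.1 hc
        exact hg ▸ key g
      have hM := hmin' M inferInstance (hMK.trans hK'N) fun e => by
        have hy1 := Subgroup.subset_normalClosure (G := G) (Set.mem_singleton y)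
        rw [SetLike.mem_coe, show Subgroup.normalClosure ({y} : Set G) = ⊥ from e, Subgroup.mem_bot] at hy1
        rw [hy1, orderOf_one] at hy7
        norm_num at hy7
      refine hne.2 (Subgroup.map_injective N.subtype_injective ?_)
      rw [← MonoidHom.range_eq_map, Subgroup.range_subtype]
      exact le_antisymm hK'N (hM.ge.trans hMK)
    · -- a normal 2-subgroup
      have hc := card_normal_prime_to_seven h h14 h21 hK'N hK'n ⟨x, hxN, hx⟩ h7K
      have hK2 : IsPGroup 2 K := by
        rw [Subgroup.card_map_of_injective N.subtype_injective] at hc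
        rcases hc with e | e | e
        · exact IsPGroup.of_card (n := 0) e
        · exact IsPGroup.of_card (n := 3) e
        · exact IsPGroup.of_card (n := 6) e
      obtain ⟨T⟩ := (inferInstance : Nonempty (Sylow 2 N))
      let M := ((T : Subgroup N).map N.subtype).normalCore
      have hKM : K' ≤ M := by
        intro z hz g
        obtain ⟨w, hw, rfl⟩ := hz
        -- the conjugate of a Sylow subgroup of `N` is another one
        let φ : MulAut N := MulAut.conjNormal g⁻¹
        have hle : K ≤ ((φ • T : Sylow 2 N) : Subgroup N) := by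
          have := hK
          have hp : IsPGroup 2 ↥(K ⊔ ((φ • T : Sylow 2 N) : Subgroup N)) :=
            hK2.to_sup_of_normal_left (φ • T).isPGroup'
          exact le_sup_left.trans ((φ • T).is_maximal' hp le_sup_right).le
        obtain ⟨t, ht, et⟩ := hle hw
        refine ⟨t, ht, ?_⟩
        have et' : g⁻¹ * (t : G) * g⁻¹⁻¹ = (w : G) := congrArg Subtype.val et
        show (t : G) = g * (w : G) * g⁻¹
        rw [← et']; group
      have hKne : K' ≠ ⊥ := fun e => hne.1 ((Subgroup.map_eq_bot_iff_of_injective _ N.subtype_injective).1 e)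
      have hM := hmin' M inferInstance ((Subgroup.normalCore_le _).trans (Subgroup.map_subtype_le _))
        fun e => hKne (le_bot_iff.1 (e ▸ hKM))
      have hle : N ≤ (T : Subgroup N).map N.subtype := hM.ge.trans (Subgroup.normalCore_le _)
      obtain ⟨j, hj⟩ := IsPGroup.iff_card.1 ((T.isPGroup'.map N.subtype).to_le hle)
      rw [hj] at h7
      exact absurd (Nat.Prime.dvd_of_dvd_pow (by norm_num) h7) (by norm_num)
  refine ⟨N, hN, hS, ?_⟩
  have hNd : Nat.card N ∣ 12096 := h ▸ Subgroup.card_subgroup_dvd_card N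
  have hnc : ¬ IsMulCommutative N := by
    refine CfsgLib.Transfer.not_isMulCommutative_of_not_prime ?_
    intro hp
    have := (Nat.prime_dvd_prime_iff_eq (by norm_num : Nat.Prime 7) hp).1 h7
    rw [← this] at h2016
    norm_num at h2016
  obtain ⟨m, hm⟩ := h2016
  have hm6 : m ∣ 6 := Nat.dvd_of_mul_dvd_mul_left (show 0 < 2016 by norm_num)
    (by rw [← hm]; simpa using hNd)
  have : m ∈ Nat.divisors 6 := Nat.mem_divisors.2 ⟨hm6, by norm_num⟩
  rw [show Nat.divisors 6 = {1, 2, 3, 6} by decide] at this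
  simp only [Finset.mem_insert, Finset.mem_singleton] at this
  rcases this with e | e | e | e <;> rw [e] at hm
  · have := CfsgLib.StructC.OrdersBelow.card_mem_below_6000 hnc (by omega)
    simp only [List.mem_cons, List.not_mem_nil, or_false] at this
    omega
  · have := CfsgLib.StructC.OrdersBelow.card_mem_below_6000 hnc (by omega)
    simp only [List.mem_cons, List.not_mem_nil, or_false] at this
    omega
  · omega
  · exact absurd (not_simple_twelve (G := N) (by omega)
      (fun g => by rw [← Subgroup.orderOf_coe]; exact h14 g)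
      (fun g => by rw [← Subgroup.orderOf_coe]; exact h21 g)) id

include h h14 h21 in
/-- The group is the automorphism group of `PSU_3(3)`. -/
theorem iso_mulAut (h9 : ∀ g : G, orderOf g ≠ 9) {K : Type} [Field K] [Fintype K] (hK : Fintype.card K = 9) :
    Nonempty (G ≃* MulAut (Cfsg.PSU 3 K 3)) := by
  obtain ⟨N, hN, hS, hc⟩ := exists_socle h h14 h21
  have := simple_psu hK
  have : Finite (Cfsg.PSU 3 K 3) := Nat.finite_of_card_ne_zero (by rw [card_psu hK]; norm_num)
  obtain ⟨e⟩ := iso_of_card (G := N) hc (fun g => by rw [← Subgroup.orderOf_coe]; exact h9 g)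
    (fun g => by rw [← Subgroup.orderOf_coe]; exact h14 g)
    (fun g => by rw [← Subgroup.orderOf_coe]; exact h21 g)
    (K := Cfsg.PSU 3 K 3) (card_psu hK) (fun x => (psu_orders hK x).1) (fun x => (psu_orders hK x).2.1)
    (fun x => (psu_orders hK x).2.2)
  let ψ : G →* MulAut N := MulAut.conjNormal
  have hinf : ψ.ker ⊓ N = ⊥ := by
    have hcen : Subgroup.center N = ⊥ := by
      rcases (inferInstance : (Subgroup.center N).Normal).eq_bot_or_eq_top with h' | h'
      · exact h'
      · exact absurd ⟨⟨fun a b => Subgroup.mem_center_iff.1 (h'.ge (Subgroup.mem_top b)) a⟩⟩ (not_comm hc)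
    rw [eq_bot_iff]
    rintro x ⟨hx, hxN⟩
    have hz : (⟨x, hxN⟩ : N) ∈ Subgroup.center N := by
      refine Subgroup.mem_center_iff.2 fun y => Subtype.ext ?_
      have he : x * y * x⁻¹ = y := congrArg Subtype.val (DFunLike.congr_fun (MonoidHom.mem_ker.1 hx) y)
      exact (mul_inv_eq_iff_eq_mul.1 he).symm
    rw [hcen, Subgroup.mem_bot] at hz
    exact Subgroup.mem_bot.2 (congrArg Subtype.val hz)
  have hker : ψ.ker = ⊥ := by
    have hle : Nat.card ψ.ker * 6048 ≤ 12096 := by
      rw [← hc, ← h, ← Nat.card_prod]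
      refine Nat.card_le_card_of_injective (fun p : ψ.ker × N => (p.1 : G) * p.2) fun p q e => ?_
      have hm : (q.1 : G)⁻¹ * p.1 ∈ ψ.ker ⊓ N := by
        refine Subgroup.mem_inf.2 ⟨mul_mem (inv_mem q.1.2) p.1.2, ?_⟩
        have : (q.1 : G)⁻¹ * p.1 = q.2 * (p.2 : G)⁻¹ := by
          rw [inv_mul_eq_iff_eq_mul, ← mul_assoc, ← (show (p.1 : G) * p.2 = q.1 * q.2 from e)]; group
        rw [this]; exact mul_mem q.2.2 (inv_mem p.2.2)
      rw [hinf, Subgroup.mem_bot, inv_mul_eq_one] at hm
      have e' : (p.1 : G) * p.2 = q.1 * q.2 := e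
      rw [hm] at e'
      exact Prod.ext (Subtype.ext hm.symm) (Subtype.ext (mul_left_cancel e'))
    refine Subgroup.card_eq_one.1 ?_
    have h7 : ¬ 7 ∣ Nat.card ψ.ker := fun h7 => by
      have := Nat.le_of_dvd Nat.card_pos h7; omega
    rcases card_normal h h14 h21 h7 with e' | e' | e' <;> omega
  have hcard : Nat.card (MulAut N) = 12096 := by
    rw [Nat.card_congr (MulAut.congr e).toEquiv, card_aut hK]
  have hb : Function.Bijective ψ := by
    have : Finite (MulAut N) := Nat.finite_of_card_ne_zero (by rw [hcard]; norm_num)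
    exact (Nat.bijective_iff_injective_and_card ψ).2
      ⟨(MonoidHom.ker_eq_bot_iff ψ).1 hker, h.trans hcard.symm⟩
  exact ⟨(MulEquiv.ofBijective ψ hb).trans (MulAut.congr e)⟩

end CfsgLib.Recog.USixty
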