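import Cfsg.Agent.Lib.Recog.USixty.Sieve

/-!
# Groups of order 12096 without elements of order 14 or 21: the Sylow 7-subgroups
-/

set_option autoImplicit false

namespace CfsgLib.Recog.USixty

open Subgroup CfsgLib.ClassK.RowSieve

universe u

variable {G : Type u} [Group G] [Finite G] (h : Nat.card G = 12096) (h14 : ∀ g : G, orderOf g ≠ 14)
  (h21 : ∀ g : G, orderOf g ≠ 21)

include h14 in
theorem not_comm_two {x y : G} (hx : orderOf x = 7) (hy : orderOf y = 2) : y * x ≠ x * y := fun e =>
  h14 (y * x) (by rw [Commute.orderOf_mul_eq_mul_orderOf_of_coprime e (by rw [hx, hy]; norm_num), hx, hy])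

include h21 in
theorem not_comm_three {x y : G} (hx : orderOf x = 7) (hy : orderOf y = 3) : y * x ≠ x * y := fun e =>
  h21 (y * x) (by rw [Commute.orderOf_mul_eq_mul_orderOf_of_coprime e (by rw [hx, hy]; norm_num), hx, hy])

include h h14 h21 in
theorem card_cen_seven {x : G} (hx : orderOf x = 7) :
    Nat.card (centralizer ({x} : Set G)) = 7 := by
  have hd : Nat.card (centralizer ({x} : Set G)) ∣ 12096 := h ▸ Subgroup.card_subgroup_dvd_card _
  have h7 : 7 ∣ Nat.card (centralizer ({x} : Set G)) := hx ▸ Subgroup.orderOf_dvd_natCard _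
    (mem_centralizer_singleton_iff.2 rfl)
  have key : ∀ q : ℕ, q = 2 ∨ q = 3 → ¬ q ∣ Nat.card (centralizer ({x} : Set G)) := by
    intro q hq hqd
    have : Fact q.Prime := ⟨by rcases hq with rfl | rfl <;> norm_num⟩
    obtain ⟨y, hy⟩ := exists_prime_orderOf_dvd_card' q hqd
    have hyc := mem_centralizer_singleton_iff.1 y.2
    rw [← Subgroup.orderOf_coe] at hy
    rcases hq with rfl | rfl
    · exact not_comm_two h14 hx hy hyc
    · exact not_comm_three h21 hx hy hyc
  obtain ⟨m, hm⟩ := h7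
  rw [hm] at hd key ⊢
  have hm' : m ∣ 1728 := Nat.dvd_of_mul_dvd_mul_left (by norm_num : 0 < 7) (by simpa using hd)
  by_contra hne
  obtain ⟨q, hq, hqm⟩ := Nat.exists_prime_and_dvd (show m ≠ 1 by omega)
  have hq6 : q ∣ 2 ^ 6 * 3 ^ 3 := hqm.trans (by simpa using hm')
  rcases hq.dvd_mul.1 hq6 with e | e
  · have := (Nat.prime_dvd_prime_iff_eq hq Nat.prime_two).1 (hq.dvd_of_dvd_pow e)
    exact key q (Or.inl this) (hqm.mul_left 7)
  · have := (Nat.prime_dvd_prime_iff_eq hq Nat.prime_three).1 (hq.dvd_of_dvd_pow e)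
    exact key q (Or.inr this) (hqm.mul_left 7)

include h h14 h21 in
theorem sylow_seven (P : Sylow 7 G) : Nat.card (P : Subgroup G) = 7 ∧ Nat.card (Sylow 7 G) = 288 ∧
    Nat.card (centralizer ((P : Subgroup G) : Set G)) = 7 ∧
    (centralizer ((P : Subgroup G) : Set G)).relIndex (normalizer ((P : Subgroup G) : Set G)) = 6 := by
  have : Fact (Nat.Prime 7) := ⟨by norm_num⟩
  have hP : Nat.card (P : Subgroup G) = 7 :=
    CfsgLib.Transfer.card_sylow_eq_prime P (h ▸ by norm_num) (h ▸ by norm_num)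
  obtain ⟨x, hx⟩ := exists_prime_orderOf_dvd_card' (G := (P : Subgroup G)) 7 (by rw [hP])
  have hx' : orderOf (x : G) = 7 := by rw [Subgroup.orderOf_coe, hx]
  have hz : zpowers (x : G) = (P : Subgroup G) :=
    Subgroup.eq_of_le_of_card_ge (zpowers_le.2 x.2) (by rw [Nat.card_zpowers, hx', hP])
  have hC : Nat.card (centralizer ((P : Subgroup G) : Set G)) = 7 := by
    refine le_antisymm ?_ (Nat.le_of_dvd Nat.card_pos ?_)
    · exact (Subgroup.card_le_of_le (Subgroup.centralizer_le (Set.singleton_subset_iff.2 x.2))).trans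
        (card_cen_seven h h14 h21 hx').le
    · refine hx'.symm.dvd.trans ?_
      exact Subgroup.orderOf_dvd_natCard _ (mem_centralizer_iff.2 fun p hp => by
        rw [SetLike.mem_coe, ← hz, mem_zpowers_iff] at hp
        obtain ⟨k, rfl⟩ := hp
        exact (Commute.zpow_self (x : G) k).eq)
  have hcfg := card_config P
  rw [hC, h] at hcfg
  obtain ⟨e, he⟩ : ∃ e, e = (centralizer ((P : Subgroup G) : Set G)).relIndex
    (normalizer ((P : Subgroup G) : Set G)) := ⟨_, rfl⟩
  rw [← he] at hcfg ⊢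
  have hmod := card_sylow_modEq_one 7 G
  have he6 : e ∣ 6 := by
    have hd : e ∣ 1728 := ⟨Nat.card (Sylow 7 G), by nlinarith [hcfg]⟩
    obtain ⟨e', he', -, hN⟩ := CfsgLib.Transfer.normalizer_centralizer_index (P : Subgroup G) hP
    have h2 : e * Nat.card (centralizer ((P : Subgroup G) : Set G)) =
        Nat.card (normalizer ((P : Subgroup G) : Set G)) := by
      rw [he, Subgroup.relIndex,
        ← Nat.card_congr (Subgroup.subgroupOfEquivOfLe (Subgroup.centralizer_le_normalizer _)).toEquiv]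
      exact Subgroup.index_mul_card _
    rw [hN, hC] at h2
    rwa [show e = e' by omega]
  refine ⟨hP, ?_⟩
  have : e ∈ Nat.divisors 6 := Nat.mem_divisors.2 ⟨he6, by norm_num⟩
  rw [show Nat.divisors 6 = {1, 2, 3, 6} by decide] at this
  simp only [Finset.mem_insert, Finset.mem_singleton] at this
  rw [Nat.ModEq] at hmod
  rcases this with e' | e' | e' | e' <;> rw [e'] at hcfg ⊢
  all_goals refine ⟨?_, hC, ?_⟩
  all_goals omega

end CfsgLib.Recog.USixty
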