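import Cfsg.Agent.Lib.Recog.USixty.TwelveBase
import Cfsg.Agent.Lib.StructC.OrdersBelowTools

/-!
# No simple group of order 12096 lacks elements of order 14 and 21
-/

set_option autoImplicit false
set_option linter.unusedSectionVars false

namespace CfsgLib.Recog.USixty

open Cfsg CfsgLib CfsgLib.Block CfsgLib.ClassK.RowSieve CfsgLib.ClassK.RowInvolution
open scoped ComplexConjugate

universe u

variable {G : Type u} [Group G] [Finite G]

open scoped Classical in
/-- The data at an involution read on the principal 7-block. -/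
theorem invol_data [IsSimpleGroup G] (hG : ¬ IsMulCommutative G) (h : Nat.card G = 12096)
    (P : Sylow 7 G) (hP : Nat.card (P : Subgroup G) = 7) (hnp : Nat.card (Sylow 7 G) = 288)
    (hC : Nat.card (Subgroup.centralizer ((P : Subgroup G) : Set G)) = 7)
    (he : (Subgroup.centralizer ((P : Subgroup G) : Set G)).relIndex
      (Subgroup.normalizer ((P : Subgroup G) : Set G)) = 6) {x : G} (hx : x ∈ (P : Subgroup G)) (hx1 : x ≠ 1) :
    ∃ l ∈ Sieve.degLists, ∀ u : G, orderOf u = 2 → ∀ N : ℕ,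
      Nat.card {s : G // IsConj (u * (s * u * s⁻¹)) x} = N → ∀ K : ℕ,
      Nat.card (Subgroup.centralizer ({u} : Set G)) ≤ K →
      ∃ r : List ((ℕ × Bool) × ℤ), r.map Prod.fst = l ∧ (∀ a ∈ r, a.2 ∈ qRange a.1.1) ∧
        1 + (r.map fun a => sgn a.1 * a.2).sum = 0 ∧ 1 + (r.map fun a => a.2 * a.2).sum ≤ (K : ℤ) ∧
        12096 + (r.map fun a => sgn a.1 * a.2 * a.2 * ((12096 / a.1.1 : ℕ) : ℤ)).sum = 7 * (N : ℤ) := by
  have hp : Nat.Prime 7 := by norm_num
  have : Fact (Nat.Prime 7) := ⟨hp⟩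
  have := Fintype.ofFinite G
  have := Fintype.ofFinite (IrrCharacter G)
  have hperf := CfsgLib.Transfer.commutator_eq_top_of_simple hG
  obtain ⟨M, hM⟩ := BlockB.exists_isPModular (p := 7) hp
  have := isPrime_of_pmodular hM
  obtain ⟨e, t, d₀, σ, CF, YF, ε, D⟩ := exists_rows hperf hM P hP
  obtain rfl : e = 6 := D.e_eq.symm.trans he
  obtain rfl : t = 1 := by have := D.hte; omega
  have hxo : orderOf x = 7 := by
    have h' := Subgroup.orderOf_dvd_natCard (P : Subgroup G) hx
    rw [hP] at h'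
    exact ((Nat.dvd_prime hp).1 h').resolve_left fun e => hx1 (orderOf_eq_one_iff.1 e)
  have hCx : Nat.card (Subgroup.centralizer ({x} : Set G)) = 7 := by
    rw [BrauerReynolds.centralizer_mem_eq P hP hx hx1, hC]
  let one : IrrCharacter G := ⟨fun _ => 1, Char.isIrrCharacter_one⟩
  have hdeg2 : ∀ φ : IrrCharacter G, φ ≠ one → 2 ≤ charDegree (φ : G → ℂ) := fun φ hφ => by
    have h0 : 0 < charDegree (φ : G → ℂ) := BlockB.irr_degree_pos φ
    by_contra hlt
    refine hφ (Subtype.ext (BrauerReynolds.eq_one_of_degree_one hperf φ ?_))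
    rw [← BlockB.irr_degree_cast φ, show charDegree (φ : G → ℂ) = 1 by omega, Nat.cast_one]
  have hdvd : ∀ φ : IrrCharacter G, charDegree (φ : G → ℂ) ∣ 12096 := fun φ =>
    h ▸ BlockB.irr_degree_dvd_card φ
  have hidx : (Subgroup.centralizer ({x} : Set G)).index = 288 * 6 := by
    rw [BrauerReynolds.centralizer_mem_eq P hP hx hx1, BrauerReynolds.index_centralizer, he, hnp,
      mul_comm]
  have hsumsq : ∑ φ : IrrCharacter G, charDegree (φ : G → ℂ) * charDegree (φ : G → ℂ) = 12096 := by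
    have h' := CfsgLib.Char.sum_irr_sq (G := G)
    simp only [← BlockB.irr_degree_cast, pow_two, h] at h'
    exact_mod_cast h'
  have hlt : ∀ φ : IrrCharacter G, charDegree (φ : G → ℂ) < 110 := fun φ => by
    by_contra hle
    push Not at hle
    have h2 := Nat.mul_le_mul hle hle
    have h3 : charDegree (φ : G → ℂ) * charDegree (φ : G → ℂ) ≤ 12096 := hsumsq ▸
      Finset.single_le_sum (f := fun φ : IrrCharacter G =>
        charDegree (φ : G → ℂ) * charDegree (φ : G → ℂ)) (fun _ _ => Nat.zero_le _) (Finset.mem_univ φ)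
    omega
  let f : IrrCharacter G → ℕ × Bool := fun φ => (charDegree (φ : G → ℂ), decide (ε φ = 1))
  have hsgn : ∀ φ ∈ CF, sgn (f φ) = ε φ := fun φ hφ => by
    rcases D.eps_pm φ hφ with h' | h' <;> simp [sgn, f, h']
  have hcand : ∀ φ ∈ CF.erase one, f φ ∈ cands 12096 (288 * 6) 7 110 false (fun _ => true) := by
    intro φ hφ
    obtain ⟨hφ1, hφC⟩ := Finset.mem_erase.1 hφ
    set d := charDegree (φ : G → ℂ) with hd
    have hd2 : 2 ≤ d := hdeg2 φ hφ1
    have hdn : 12096 % d = 0 := Nat.mod_eq_zero_of_dvd (hdvd φ)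
    have hM' : (288 * 6) % d = 0 := Nat.mod_eq_zero_of_dvd (hidx ▸
      BrauerReynolds.dvd_of_omega_sum {φ} id x (BlockB.irr_degree_pos φ)
        (fun j hj => by rw [Finset.mem_singleton.1 hj]; exact (BlockB.irr_degree_cast φ).symm)
        (D.eps_pm φ hφC) (by rw [Finset.sum_singleton]; exact D.CF_val φ hφC x hx hx1))
    have hmod := D.CF_mod φ hφC
    rw [← hd] at hmod
    simp only [cands, List.mem_filter, List.mem_append, List.mem_map, List.mem_range]
    refine ⟨?_, ?_⟩
    · rcases D.eps_pm φ hφC with h' | h'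
      · exact Or.inl ⟨d, hlt φ, Prod.ext rfl (by simp [f, h'])⟩
      · exact Or.inr ⟨d, hlt φ, Prod.ext rfl (by simp [f, h'])⟩
    · rcases D.eps_pm φ hφC with h' | h' <;> rw [h'] at hmod
      · have hd1 : d % 7 = 1 := by omega
        simp [candOK, f, h', ← hd, hd2, hM', hd1, hdn]
      · have hd1 : d % 7 = 6 := by omega
        simp [candOK, f, h', ← hd, hd2, hM', hd1, hdn]
  have hdone : charDegree (one : G → ℂ) = 1 := by
    have h' := BlockB.irr_degree_cast one
    simp only [one] at h'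
    exact_mod_cast h'
  have hsplit : ∀ g : IrrCharacter G → ℤ,
      ∑ φ ∈ CF, g φ = g one + ∑ φ ∈ CF.erase one, g φ := fun g =>
    (Finset.add_sum_erase _ _ D.one_mem).symm
  have htot : ∑ φ ∈ CF.erase one, (f φ).1 * (f φ).1 ≤ 12096 := by
    rw [← hsumsq]
    exact Finset.sum_le_univ_sum_of_nonneg fun _ => Nat.zero_le _
  have hcard : (CF.erase one).card = 6 := by
    rw [Finset.card_erase_of_mem D.one_mem, D.card_CF, if_pos rfl]
  obtain ⟨l, hl, hlmap⟩ := sols_sound f _ (CF.erase one) 0 hcand (n := 12096) (by omega)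
  rw [hcard] at hl
  refine ⟨l, ?_, ?_⟩
  · refine List.mem_filter.2 ⟨hl, decide_eq_true ?_⟩
    have hdeg := D.deg_eq
    rw [if_pos rfl, hsplit, D.eps_one, hdone, Nat.cast_one, one_mul] at hdeg
    rw [← hdeg, ← Multiset.sum_coe, ← Multiset.map_coe, ← hlmap, Multiset.map_map]
    exact congrArg _ (Finset.sum_congr rfl fun φ hφ => by
      rw [Function.comp_apply, hsgn φ (Finset.mem_of_mem_erase hφ)])
  intro u hu N hN K hK
  have hreg : ¬ 7 ∣ orderOf u := by rw [hu]; norm_num
  have hq : ∀ φ : IrrCharacter G, ∃ a : ℤ, (φ : G → ℂ) u = (a : ℂ) ∧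
      (φ ≠ one → a ∈ qRange (charDegree (φ : G → ℂ))) := fun φ => by
    by_cases hφ : φ = one
    · exact ⟨1, by simp [hφ, one], fun h' => absurd hφ h'⟩
    · obtain ⟨a, ha, hau⟩ := exists_mem_qRange hperf φ hu
        (fun g hg => CfsgLib.Transfer.irr_apply_ne_apply_one φ (fun h' => hφ (Subtype.ext h')) hg)
        fun hcen => by
          rcases IsSimpleGroup.eq_bot_or_eq_top_of_normal (Subgroup.center G) inferInstance with hc | hc
          · rw [hc, Subgroup.mem_bot] at hcen; rw [hcen, orderOf_one] at hu; omega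
          · exact hG ⟨⟨fun a b => Subgroup.mem_center_iff.1 (hc.ge (Subgroup.mem_top b)) a⟩⟩
      exact ⟨a, hau, fun _ => ha⟩
  choose q hqval hqmem using hq
  have hqone : q one = 1 := by
    have h' := hqval one
    simp only [one] at h'
    exact_mod_cast h'.symm
  obtain ⟨r, hr, hrmap⟩ := assign_sound f q l (CF.erase one).val
    (fun φ hφ => hqmem φ (Finset.ne_of_mem_erase hφ)) hlmap
  have hassign : ∀ (l : List (ℕ × Bool)) (r : List ((ℕ × Bool) × ℤ)), r ∈ assign l →
      r.map Prod.fst = l ∧ ∀ a ∈ r, a.2 ∈ qRange a.1.1 := by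
    intro l
    induction l with
    | nil => intro r hr; simp [assign] at hr; simp [hr]
    | cons c cs ih =>
      intro r hr
      simp only [assign, List.mem_flatMap, List.mem_map] at hr
      obtain ⟨v, hv, r', hr', rfl⟩ := hr
      obtain ⟨e1, e2⟩ := ih r' hr'
      refine ⟨by rw [List.map_cons, e1], fun a ha => ?_⟩
      rcases List.mem_cons.1 ha with rfl | ha
      · exact hv
      · exact e2 a ha
  have hrsum : ∀ g : (ℕ × Bool) × ℤ → ℤ,
      (r.map g).sum = ∑ φ ∈ CF.erase one, g (f φ, q φ) := fun g => by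
    rw [← Multiset.sum_coe, ← Multiset.map_coe, ← hrmap, Multiset.map_map]; rfl
  obtain ⟨hr1, hr2⟩ := hassign l r hr
  refine ⟨r, hr1, hr2, ?_, ?_, ?_⟩
  · have h' := D.relation_one rfl u hreg
    rw [Finset.sum_congr rfl fun φ _ => by rw [hqval φ]] at h'
    have h'' : ∑ φ ∈ CF, ε φ * q φ = 0 := by exact_mod_cast h'
    rw [hrsum, ← h'', hsplit (fun φ => ε φ * q φ), D.eps_one, hqone, one_mul]
    exact congrArg _ (Finset.sum_congr rfl fun φ hφ => by rw [hsgn φ (Finset.mem_of_mem_erase hφ)])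
  · have hcol := Char.column_orthogonality u u
    rw [if_pos (IsConj.refl u), ← Finset.sum_add_sum_compl CF] at hcol
    have hre := congrArg Complex.re hcol
    simp only [Complex.add_re, Complex.re_sum, Complex.mul_conj, Complex.ofReal_re,
      Complex.natCast_re] at hre
    have hge : (0 : ℝ) ≤ ∑ φ ∈ CFᶜ, Complex.normSq ((φ : G → ℂ) u) :=
      Finset.sum_nonneg fun φ _ => Complex.normSq_nonneg _
    have hT : ∑ φ ∈ CF, Complex.normSq ((φ : G → ℂ) u) = ((∑ φ ∈ CF, q φ * q φ : ℤ) : ℝ) := by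
      rw [Int.cast_sum]
      refine Finset.sum_congr rfl fun φ _ => ?_
      rw [hqval φ, ← Complex.ofReal_intCast, Complex.normSq_ofReal, Int.cast_mul]
    have h3 : ((Nat.card (Subgroup.centralizer ({u} : Set G)) : ℕ) : ℝ) ≤ (K : ℝ) := by
      exact_mod_cast hK
    have h2 : ((∑ φ ∈ CF, q φ * q φ : ℤ) : ℝ) ≤ (K : ℝ) := by linarith
    rw [hrsum]
    have h4 : ∑ φ ∈ CF, q φ * q φ ≤ (K : ℤ) := by exact_mod_cast h2
    rwa [hsplit, hqone, one_mul] at h4
  · have hexp : (7 : ℂ) * (N : ℂ) = ∑ φ ∈ CF, (12096 : ℂ) * (φ : G → ℂ) u *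
        (φ : G → ℂ) u / (φ : G → ℂ) 1 * conj ((φ : G → ℂ) x) := by
      have hS : ∑ s : G, ∑ φ : IrrCharacter G, (φ : G → ℂ) (u * (s * u * s⁻¹)) *
          conj ((φ : G → ℂ) x) = (7 : ℂ) * (N : ℂ) := by
        rw [Finset.sum_congr rfl (g := fun s => if IsConj (u * (s * u * s⁻¹)) x then
            (Nat.card (Subgroup.centralizer ({u * (s * u * s⁻¹)} : Set G)) : ℂ) else 0)
            fun s _ => by rw [Char.column_orthogonality]; split_ifs <;> rfl, ← Finset.sum_filter,
          Finset.sum_congr rfl (g := fun _ => (7 : ℂ)) fun s hs => ?_, Finset.sum_const,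
          nsmul_eq_mul, ← hN, Nat.card_eq_fintype_card, Fintype.card_subtype, mul_comm]
        obtain ⟨g, hg⟩ := isConj_iff.1 (Finset.mem_filter.1 hs).2
        rw [← hg, CfsgLib.Transfer.card_centralizer_conj] at hCx
        rw [hCx]
        norm_num
      rw [← hS, Finset.sum_comm, ← Finset.sum_subset (Finset.subset_univ CF)]
      · refine Finset.sum_congr rfl fun φ _ => ?_
        rw [← Finset.sum_mul, BlockB.sum_irr_mul_conj φ u u, h, Nat.cast_ofNat]
      · intro φ _ hφ
        have hzero : (φ : G → ℂ) x = 0 := by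
          have hcol := Char.column_orthogonality x x
          rw [if_pos (IsConj.refl x), hCx] at hcol
          have hB := (principal_section hM ⟨1, by rw [pow_one, hxo]⟩
            (hasNormalPComplement_centralizer P hP hx hx1)).2
          have hY : YF = ∅ := Finset.card_eq_zero.1 (by rw [D.card_YF, if_pos rfl])
          rw [hCx, hp.factorization_self, pow_one,
            finsum_mem_eq_finite_toFinset_sum _ (Set.toFinite _),
            Finset.sum_congr (show (Set.toFinite (principalBlock M G)).toFinset = CF by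
              ext ψ; simp [D.mem ψ, hY]) fun _ _ => rfl] at hB
          rw [← Finset.sum_add_sum_compl CF, hB, add_eq_left] at hcol
          have hre : ∑ ψ ∈ CFᶜ, Complex.normSq ((ψ : G → ℂ) x) = 0 := by
            have := congrArg Complex.re hcol
            simpa [Complex.mul_conj] using this
          exact Complex.normSq_eq_zero.1 ((Finset.sum_eq_zero_iff_of_nonneg fun ψ _ =>
            Complex.normSq_nonneg _).1 hre φ (Finset.mem_compl.2 hφ))
        simp [hzero]
    have hsum : ∑ φ ∈ CF, (12096 : ℂ) * (φ : G → ℂ) u * (φ : G → ℂ) u / (φ : G → ℂ) 1 *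
        conj ((φ : G → ℂ) x) =
        ((∑ φ ∈ CF, ε φ * q φ * q φ * ((12096 / charDegree (φ : G → ℂ) : ℕ) : ℤ) : ℤ) : ℂ) := by
      rw [Int.cast_sum]
      refine Finset.sum_congr rfl fun φ hφ => ?_
      rw [D.CF_val φ hφ x hx hx1, map_intCast, hqval, Int.cast_mul, Int.cast_mul, Int.cast_mul,
        Int.cast_natCast, Nat.cast_div (hdvd φ) (Nat.cast_ne_zero.2 (BlockB.irr_degree_pos φ).ne'),
        BlockB.irr_degree_cast, Nat.cast_ofNat]
      ring
    rw [hsum] at hexp
    have h' : (7 : ℤ) * N = ∑ φ ∈ CF, ε φ * q φ * q φ * ((12096 / charDegree (φ : G → ℂ) : ℕ) : ℤ) := by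
      exact_mod_cast hexp
    rw [h', hrsum, hsplit (fun φ => ε φ * q φ * q φ * ((12096 / charDegree (φ : G → ℂ) : ℕ) : ℤ)),
      D.eps_one, hqone, hdone, Nat.div_one, one_mul, one_mul, one_mul]
    exact congrArg _ (Finset.sum_congr rfl fun φ hφ => by rw [hsgn φ (Finset.mem_of_mem_erase hφ)])

open scoped Classical in
/-- No simple group of order 12096 without elements of order 14 and 21. -/
theorem not_simple_twelve [IsSimpleGroup G] (h : Nat.card G = 12096) (h14 : ∀ g : G, orderOf g ≠ 14)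
    (h21 : ∀ g : G, orderOf g ≠ 21) : False := by
  have : Fact (Nat.Prime 7) := ⟨by norm_num⟩
  have : Fact (Nat.Prime 2) := ⟨Nat.prime_two⟩
  have := Fintype.ofFinite G
  have hG : ¬ IsMulCommutative G :=
    CfsgLib.Transfer.not_isMulCommutative_of_not_prime (by rw [h]; norm_num)
  obtain ⟨P⟩ := (inferInstance : Nonempty (Sylow 7 G))
  obtain ⟨hP, hnp, hC, he⟩ := sylow_seven h h14 h21 P
  have hA := CfsgLib.Transfer.centralizer_singleton_eq (P : Subgroup G) hP hC
  obtain ⟨x, hx⟩ := exists_prime_orderOf_dvd_card' (G := (P : Subgroup G)) 7 (by rw [hP])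
  have hx7 : orderOf (x : G) = 7 := by rw [Subgroup.orderOf_coe, hx]
  have hx1 : (x : G) ≠ 1 := fun e => by rw [e, orderOf_one] at hx7; norm_num at hx7
  obtain ⟨l, hl, hdata⟩ := invol_data hG h P hP hnp hC he x.2 hx1
  have hPcomm : ∀ a ∈ (P : Subgroup G), ∀ b ∈ (P : Subgroup G), a * b = b * a := fun a ha b hb =>
    Char.comm_of_selfCentral hA ha hb
  have hN : Nat.card (Subgroup.normalizer ((P : Subgroup G) : Set G)) = 42 := by
    obtain ⟨e', -, -, hN⟩ := CfsgLib.Transfer.normalizer_centralizer_index (P : Subgroup G) hP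
    have h1 := P.card_eq_index_normalizer
    have h2 : _ * (Subgroup.normalizer ((P : Subgroup G) : Set G)).index = _ :=
      (Subgroup.normalizer ((P : Subgroup G) : Set G)).card_mul_index
    rw [show (Subgroup.normalizer ((P : Subgroup G) : Set G)).index = 288 from h1.symm.trans hnp, h] at h2
    omega
  have hconjP : ∀ g ∈ Subgroup.normalizer ((P : Subgroup G) : Set G), ∀ a ∈ (P : Subgroup G),
      g * a * g⁻¹ ∈ (P : Subgroup G) := fun g hg a ha => (Subgroup.mem_normalizer_iff.1 hg a).1 ha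
  -- the involution inverting the Sylow subgroup
  obtain ⟨⟨u, huN⟩, hu⟩ := exists_prime_orderOf_dvd_card'
    (G := Subgroup.normalizer ((P : Subgroup G) : Set G)) 2 (by rw [hN]; norm_num)
  rw [← Subgroup.orderOf_coe] at hu
  have huu : u * u = 1 := by
    have := pow_orderOf_eq_one u
    rwa [hu, pow_two] at this
  have hui : u⁻¹ = u := inv_eq_of_mul_eq_one_right huu
  have hinv : ∀ a ∈ (P : Subgroup G), u * a * u = a⁻¹ := by
    intro a ha
    have hb := hconjP u huN a ha
    rw [hui] at hb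
    refine eq_inv_of_mul_eq_one_left (by_contra fun hne => ?_)
    have hm : u * a * u * a ∈ (P : Subgroup G) := mul_mem hb ha
    have ho : orderOf (u * a * u * a) = 7 := by
      have h' := Subgroup.orderOf_dvd_natCard (P : Subgroup G) hm
      rw [hP] at h'
      exact ((Nat.dvd_prime (by norm_num)).1 h').resolve_left fun e => hne (orderOf_eq_one_iff.1 e)
    refine not_comm_two h14 ho hu ?_
    calc u * (u * a * u * a) = (u * u) * a * u * a := by group
      _ = a * u * a * (u * u) := by rw [huu, one_mul, mul_one]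
      _ = (a * (u * a * u)) * u := by group
      _ = ((u * a * u) * a) * u := by rw [hPcomm a ha _ hb]
  -- an element of order three commuting with it
  have hC3 : 3 ∣ Nat.card (Subgroup.centralizer ({u} : Set G)) := by
    have : Fact (Nat.Prime 3) := ⟨Nat.prime_three⟩
    obtain ⟨⟨v, hvN⟩, hv⟩ := exists_prime_orderOf_dvd_card'
      (G := Subgroup.normalizer ((P : Subgroup G) : Set G)) 3 (by rw [hN]; norm_num)
    rw [← Subgroup.orderOf_coe] at hv
    obtain ⟨a, hadef⟩ : ∃ a, a = u * v * u * v⁻¹ := ⟨_, rfl⟩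
    have hw : v⁻¹ * x * v ∈ (P : Subgroup G) := by
      simpa using hconjP v⁻¹ (inv_mem hvN) x x.2
    have ha : a ∈ (P : Subgroup G) := by
      rw [← hA x x.2 hx1, Subgroup.mem_centralizer_singleton_iff]
      refine mul_inv_eq_iff_eq_mul.1 ?_
      calc a * x * a⁻¹ = u * v * (u * (v⁻¹ * x * v) * u⁻¹) * v⁻¹ * u⁻¹ := by rw [hadef]; group
        _ = u * v * (v⁻¹ * x * v)⁻¹ * v⁻¹ * u⁻¹ := by rw [hui, hinv _ hw]
        _ = u * (x : G)⁻¹ * u⁻¹ := by group
        _ = x := by rw [hui, hinv _ (inv_mem x.2), inv_inv]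
    have ha7 : a ^ 7 = 1 := by
      rw [← orderOf_dvd_iff_pow_eq_one, ← hP]; exact Subgroup.orderOf_dvd_natCard _ ha
    have hpow : ∀ k : ℕ, ∃ p ∈ (P : Subgroup G), (a ^ 4 * v) ^ k = p * v ^ k := by
      intro k
      induction k with
      | zero => exact ⟨1, one_mem _, by simp⟩
      | succ k ih =>
        obtain ⟨p, hp, e⟩ := ih
        refine ⟨p * (v ^ k * a ^ 4 * (v ^ k)⁻¹), mul_mem hp (hconjP _ (pow_mem hvN k) _ (pow_mem ha 4)), ?_⟩
        rw [pow_succ, e, pow_succ]
        group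
    have hcomm : u * (a ^ 4 * v) = a ^ 4 * v * u := by
      have h1 : u * v = a * v * u := by rw [hadef, mul_assoc (u * v * u), inv_mul_cancel, mul_one, mul_assoc (u * v), huu, mul_one]
      have h4 : u * a ^ 4 = (a ^ 4)⁻¹ * u := by
        rw [← hinv _ (pow_mem ha 4), mul_assoc (u * a ^ 4), huu, mul_one]
      calc u * (a ^ 4 * v) = (a ^ 4)⁻¹ * (u * v) := by rw [← mul_assoc, h4, mul_assoc]
        _ = ((a ^ 4)⁻¹ * a) * v * u := by rw [h1]; group
        _ = a ^ 4 * v * u := by
          congr 2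
          rw [inv_mul_eq_iff_eq_mul, ← pow_add, show 4 + 4 = 7 + 1 by norm_num, pow_succ, ha7, one_mul]
    obtain ⟨k, hk⟩ : ∃ k, k = orderOf (a ^ 4 * v) := ⟨_, rfl⟩
    have h3 : 3 ∣ k := by
      obtain ⟨p, hp, e⟩ := hpow k
      rw [hk, pow_orderOf_eq_one] at e
      have hvk : v ^ orderOf (a ^ 4 * v) ∈ (P : Subgroup G) := by
        rw [show v ^ orderOf (a ^ 4 * v) = p⁻¹ by rw [eq_comm, inv_eq_iff_mul_eq_one]; exact e.symm]
        exact inv_mem hp
      have hd := Subgroup.orderOf_dvd_natCard _ hvk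
      rw [hP, ← hk] at hd
      by_contra h3
      have hcop : Nat.Coprime k (orderOf v) := by
        rw [hv]; exact ((Nat.prime_three.coprime_iff_not_dvd).2 h3).symm
      rw [Nat.Coprime.orderOf_pow hcop.symm, hv] at hd
      norm_num at hd
    exact h3.trans (hk ▸ Subgroup.orderOf_dvd_natCard _
      (Subgroup.mem_centralizer_singleton_iff.2 hcomm.symm))
  set C := Nat.card (Subgroup.centralizer ({u} : Set G)) with hCdef
  have hCdvd : C ∣ 12096 := h ▸ Subgroup.card_subgroup_dvd_card _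
  have hC2 : 2 ∣ C := hu ▸ Subgroup.orderOf_dvd_natCard _ (Subgroup.mem_centralizer_singleton_iff.2 rfl)
  have hC7 : ¬ 7 ∣ C := fun h7 => by
    obtain ⟨y, hy⟩ := exists_prime_orderOf_dvd_card' 7 h7
    exact not_comm_two h14 (by rw [Subgroup.orderOf_coe, hy]) hu
      (Subgroup.mem_centralizer_singleton_iff.1 y.2).symm
  have hpairs : Nat.card {s : G // IsConj (u * (s * u * s⁻¹)) x} = C ^ 2 := by
    rw [Nat.card_eq_fintype_card, Fintype.card_subtype]
    exact card_pairs_invert hA (by rw [hP]; decide) huu hinv x.2 hx1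
  obtain ⟨r, hr1, hr2, hrA, hrQ, hrE⟩ := hdata u hu _ hpairs C le_rfl
  have hbound : (C : ℤ) ≤ 294 := by
    have hle : ∀ L : List ((ℕ × Bool) × ℤ), (∀ a ∈ L, 6 ≤ a.1.1) →
        (L.map fun a => sgn a.1 * a.2 * a.2 * ((12096 / a.1.1 : ℕ) : ℤ)).sum ≤
          2016 * (L.map fun a => a.2 * a.2).sum := by
      intro L hL
      induction L with
      | nil => simp
      | cons a L ih =>
        simp only [List.map_cons, List.sum_cons]
        have h1 := ih fun b hb => hL b (List.mem_cons_of_mem _ hb)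
        have hd : ((12096 / a.1.1 : ℕ) : ℤ) ≤ 2016 := by
          exact_mod_cast (Nat.div_le_div_left (hL a List.mem_cons_self) (by norm_num)).trans (by norm_num)
        have hd0 : (0 : ℤ) ≤ ((12096 / a.1.1 : ℕ) : ℤ) := Nat.cast_nonneg _
        have hs : sgn a.1 ≤ 1 := by unfold sgn; split_ifs <;> norm_num
        have h2 : sgn a.1 * a.2 * a.2 * ((12096 / a.1.1 : ℕ) : ℤ) ≤ 2016 * (a.2 * a.2) := by
          calc sgn a.1 * a.2 * a.2 * ((12096 / a.1.1 : ℕ) : ℤ)
              = sgn a.1 * ((a.2 * a.2) * ((12096 / a.1.1 : ℕ) : ℤ)) := by ring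
            _ ≤ 1 * ((a.2 * a.2) * ((12096 / a.1.1 : ℕ) : ℤ)) :=
              mul_le_mul_of_nonneg_right hs (mul_nonneg (mul_self_nonneg _) hd0)
            _ ≤ 2016 * (a.2 * a.2) := by nlinarith [mul_self_nonneg a.2]
        linarith
    have hsix : ∀ a ∈ r, 6 ≤ a.1.1 := fun a ha => by
      have hm : a.1 ∈ l := hr1 ▸ List.mem_map_of_mem ha
      have key : (Sieve.degLists.all fun l => l.all fun c => decide (6 ≤ c.1)) = true := by decide +kernel
      simpa using List.all_eq_true.1 (List.all_eq_true.1 key l hl) _ hm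
    have h1 := hle r hsix
    rw [Nat.cast_pow] at hrE
    by_contra hlt
    push Not at hlt
    nlinarith [mul_le_mul_of_nonneg_left (show (295 : ℤ) ≤ C by omega) (show (0 : ℤ) ≤ C by omega)]
  have hmem : (C : ℤ) ∈ ([6, 12, 18, 24, 36, 48, 54, 72, 96, 108, 144, 192, 216, 288] : List ℤ) := by
    have h6 : 6 ∣ C := Nat.Coprime.mul_dvd_of_dvd_of_dvd (by norm_num : Nat.Coprime 2 3) hC2 hC3
    have hlist : C ∈ (Nat.divisors 12096).filter fun c => c ≤ 294 ∧ c % 6 = 0 ∧ c % 7 ≠ 0 :=
      Finset.mem_filter.2 ⟨Nat.mem_divisors.2 ⟨hCdvd, by norm_num⟩, by omega, by omega, by omega⟩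
    rw [show (Nat.divisors 12096).filter (fun c => c ≤ 294 ∧ c % 6 = 0 ∧ c % 7 ≠ 0) =
      {6, 12, 18, 24, 36, 48, 54, 72, 96, 108, 144, 192, 216, 288} by decide +kernel] at hlist
    simp only [Finset.mem_insert, Finset.mem_singleton] at hlist
    rcases hlist with e | e | e | e | e | e | e | e | e | e | e | e | e | e <;> simp [e]
  have hsr : ∀ fin : ℤ → ℤ → Bool, fin (7 * ((C : ℤ) * C)) (1 + (r.map fun a => a.2 * a.2).sum) = true →
      Sieve.srch 288 fin l 1 12096 1 = true := fun fin hfin => by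
    rw [← hr1]
    refine Sieve.srch_sound r 1 12096 1 hr2 hrA ?_ ?_
    · simp only [List.mem_cons, List.not_mem_nil, or_false] at hmem
      omega
    · rw [hrE]
      push_cast
      rwa [pow_two]
  have hcheck := List.all_eq_true.1 Sieve.inverting_check l hl
  by_cases hls : l = Sieve.special
  swap
  · rw [if_neg (by simpa using hls), hsr Sieve.invFin48 (List.any_eq_true.2 ⟨_, hmem, by
      simp only [Bool.and_eq_true, decide_eq_true_eq]; exact ⟨trivial, hrQ⟩⟩)] at hcheck
    simp at hcheck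
  have hC48 : C = 48 := by
    by_contra h48
    rw [if_pos (by simpa using hls), hsr Sieve.invFin (List.any_eq_true.2 ⟨_, hmem, by
      simp only [Bool.and_eq_true, decide_eq_true_eq]; exact ⟨⟨trivial, hrQ⟩, by exact_mod_cast h48⟩⟩)] at hcheck
    simp at hcheck
  -- a central involution of a Sylow 2-subgroup
  obtain ⟨S⟩ := (inferInstance : Nonempty (Sylow 2 G))
  have hS : Nat.card (S : Subgroup G) = 64 := by
    rw [S.card_eq_multiplicity, h, show (12096 : ℕ) = 2 ^ 6 * 189 by norm_num,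
      Nat.factorization_mul (by norm_num) (by norm_num), Finsupp.add_apply,
      Nat.prime_two.factorization_pow, Finsupp.single_eq_same,
      Nat.factorization_eq_zero_of_not_dvd (by norm_num)]
    norm_num
  have : Nontrivial (S : Subgroup G) := Finite.one_lt_card_iff_nontrivial.1 (by rw [hS]; norm_num)
  have hcen := S.isPGroup'.center_nontrivial
  obtain ⟨z, hz⟩ := exists_prime_orderOf_dvd_card' (G := Subgroup.center (S : Subgroup G)) 2 (by
    obtain ⟨j, hj⟩ := IsPGroup.iff_card.1 (S.isPGroup'.to_subgroup (Subgroup.center (S : Subgroup G)))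
    have h1 : 1 < Nat.card (Subgroup.center (S : Subgroup G)) := Finite.one_lt_card
    rw [hj] at h1 ⊢
    exact dvd_pow_self 2 (by rintro rfl; simp at h1))
  obtain ⟨s, hsdef⟩ : ∃ s, s = ((z : (S : Subgroup G)) : G) := ⟨_, rfl⟩
  have hs : orderOf s = 2 := by rw [hsdef, Subgroup.orderOf_coe, Subgroup.orderOf_coe, hz]
  have hs64 : 64 ∣ Nat.card (Subgroup.centralizer ({s} : Set G)) := hS ▸ Subgroup.card_dvd_of_le
    fun g hg => Subgroup.mem_centralizer_singleton_iff.2 (by
      rw [hsdef]; exact congrArg Subtype.val (Subgroup.mem_center_iff.1 z.2 ⟨g, hg⟩))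
  have hss : s * s = 1 := by
    have := pow_orderOf_eq_one s
    rwa [hs, pow_two] at this
  have hno : ∀ g : G, (g * s * g⁻¹) * x * (g * s * g⁻¹)⁻¹ ≠ (x : G)⁻¹ := by
    intro g e
    have ha : g * s * g⁻¹ * u ∈ (P : Subgroup G) := by
      rw [← hA x x.2 hx1, Subgroup.mem_centralizer_singleton_iff]
      refine mul_inv_eq_iff_eq_mul.1 ?_
      calc g * s * g⁻¹ * u * x * (g * s * g⁻¹ * u)⁻¹
          = g * s * g⁻¹ * (u * x * u⁻¹) * (g * s * g⁻¹)⁻¹ := by group
        _ = g * s * g⁻¹ * (x : G)⁻¹ * (g * s * g⁻¹)⁻¹ := by rw [hui, hinv x x.2]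
        _ = (g * s * g⁻¹ * x * (g * s * g⁻¹)⁻¹)⁻¹ := by group
        _ = x := by rw [e, inv_inv]
    obtain ⟨b, hb⟩ := (powCoprime (G := (P : Subgroup G)) (n := 2)
      (by rw [hP]; norm_num)).surjective ⟨_, ha⟩
    have hb' : (b : G) * b = g * s * g⁻¹ * u := by
      rw [← pow_two]; exact congrArg Subtype.val hb
    have hbu : (b : G) * u * (b : G)⁻¹ = g * s * g⁻¹ := by
      calc (b : G) * u * (b : G)⁻¹ = b * (u * (b : G)⁻¹ * u) * u⁻¹ := by group
        _ = (b : G) * b * u⁻¹ := by rw [hinv _ (inv_mem b.2), inv_inv]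
        _ = g * s * g⁻¹ := by rw [hb']; group
    have hc1 : Nat.card (Subgroup.centralizer ({g * s * g⁻¹} : Set G)) = 48 := by
      rw [← hbu, CfsgLib.Transfer.card_centralizer_conj]; exact hC48
    rw [CfsgLib.Transfer.card_centralizer_conj] at hc1
    rw [hc1] at hs64
    norm_num at hs64
  have hzero : Nat.card {c : G // IsConj (s * (c * s * c⁻¹)) x} = 0 := Nat.card_eq_zero.2
    (Or.inl ⟨fun c => not_isConj_of_not_invert hss hss hno c.1 c.2⟩)
  have hsC : Nat.card (Subgroup.centralizer ({s} : Set G)) ≤ 1728 := by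
    have hd : Nat.card (Subgroup.centralizer ({s} : Set G)) ∣ 12096 := h ▸ Subgroup.card_subgroup_dvd_card _
    have h7 : ¬ 7 ∣ Nat.card (Subgroup.centralizer ({s} : Set G)) := fun h7 => by
      obtain ⟨y, hy⟩ := exists_prime_orderOf_dvd_card' 7 h7
      exact not_comm_two h14 (by rw [Subgroup.orderOf_coe, hy]) hs
        (Subgroup.mem_centralizer_singleton_iff.1 y.2).symm
    exact Nat.le_of_dvd (by norm_num) ((Nat.Coprime.dvd_of_dvd_mul_left
      ((Nat.Prime.coprime_iff_not_dvd (by norm_num)).2 h7).symm (by simpa using hd)))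
  obtain ⟨r', hr1', hr2', hrA', hrQ', hrE'⟩ := hdata s hs _ hzero 1728 hsC
  have hz := Sieve.srch_sound (K := 1728) (fin := fun E _ => decide (E = 0)) r' 1 12096 1 hr2' hrA'
    hrQ' (decide_eq_true (by simpa using hrE'))
  rw [hr1', hls, Sieve.zero_check] at hz
  exact Bool.false_ne_true hz

end CfsgLib.Recog.USixty
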